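/-
Dimension count in an abutting first quadrant spectral sequence of vector spaces.
-/
import Groth.Agent.Lib.SSAbs.Finite
import Mathlib.Order.Interval.Finset.Basic
import Mathlib.Data.Int.Interval

set_option autoImplicit false

open CategoryTheory CategoryTheory.Limits

namespace Groth.Agent.H77.DimCount

universe v u

variable {K : Type u} [Field K] {r₀ : ℤ} (E : CohomologicalSpectralSequence (ModuleCat.{v} K) r₀)

lemma finrank_le (hfd : ∀ pq : ℤ × ℤ, Module.Finite K ((E.page r₀ le_rfl).X pq)) {r : ℤ} (hr : r₀ ≤ r) :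
    ∀ (k : ℤ) (hk : r ≤ k) (pq : ℤ × ℤ), Module.finrank K ((E.page k (hr.trans hk)).X pq) ≤
      Module.finrank K ((E.page r hr).X pq) ∧ Module.Finite K ((E.page k (hr.trans hk)).X pq) := by
  have hf : ∀ (r : ℤ) (hr : r₀ ≤ r) (pq : ℤ × ℤ), Module.Finite K ((E.page r hr).X pq) :=
    Groth.Agent.Lib.SSAbs.Basic.induction_from
      (motive := fun r hr => ∀ pq : ℤ × ℤ, Module.Finite K ((E.page r hr).X pq)) le_rfl hfd
      fun k hk _ ih pq => by
        have := ih pq
        have := Groth.Agent.Lib.SSAbs.Finite.finite_homology (E.page k hk) pq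
        exact Module.Finite.equiv (E.iso k (k + 1) pq rfl hk).toLinearEquiv
  refine Groth.Agent.Lib.SSAbs.Basic.induction_from
    (motive := fun k hk => ∀ pq : ℤ × ℤ, Module.finrank K ((E.page k hk).X pq) ≤
      Module.finrank K ((E.page r hr).X pq) ∧ Module.Finite K ((E.page k hk).X pq)) hr
    (fun pq => ⟨le_rfl, hf r hr pq⟩) fun k hk _ ih pq => ⟨?_, hf _ _ pq⟩
  have := hf k hk pq
  rw [← (E.iso k (k + 1) pq rfl hk).toLinearEquiv.finrank_eq]
  exact (Groth.Agent.Lib.SSAbs.Finite.finrank_homology (E.page k hk)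
    (Groth.Agent.Lib.SSAbs.Basic.rel_prev k pq) (Groth.Agent.Lib.SSAbs.Basic.rel_next k pq)).1.trans (ih pq).1

variable {E}

theorem stationary (H : ℤ → ModuleCat.{v} K)
    (a : SpSeq.Abutment E H) (n : ℤ) (hfin : a.IsFinite n)
    (hquad : ∀ pq : ℤ × ℤ, pq.1 < 0 ∨ pq.2 < 0 → IsZero ((E.page r₀ le_rfl).X pq))
    (hfd : ∀ pq : ℤ × ℤ, Module.Finite K ((E.page r₀ le_rfl).X pq))
    (hH : Module.Finite K (H n))
    (hsum : ∑ s ∈ Finset.Icc (0 : ℤ) n, Module.finrank K ((E.page r₀ le_rfl).X (s, n - s)) =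
      Module.finrank K (H n)) (s : ℤ) : SpSeq.StationaryAt E (s, n - s) r₀ := by
  refine ⟨le_rfl, fun r' h₀ _ => ?_⟩
  by_cases hs : s ∈ Finset.Icc (0 : ℤ) n
  swap
  · have hz : IsZero ((E.page r' h₀).X (s, n - s)) :=
      Groth.Agent.Lib.SSAbs.Basic.isZero_page E le_rfl (hquad (s, n - s) (by simp at hs ⊢; omega)) r' h₀
    exact ⟨hz.eq_of_tgt _ _, hz.eq_of_src _ _⟩
  have hn : 0 ≤ n := by simp at hs; omega
  obtain ⟨⟨lo, hlo⟩, ⟨hi, hhi⟩⟩ := hfin
  have hzero : ∀ i, i < 0 ∨ n < i → IsZero (SpSeq.grPiece (a.fil n) (a.anti n) i) := fun i hi' =>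
    Groth.Agent.Lib.SSAbs.Basic.isZero_gr a (i, n - i) n (by simp) le_rfl (hquad _ (by simp; omega))
  have h0 : a.fil n 0 = ⊤ := Groth.Agent.Lib.SSAbs.Basic.eq_top_of_isZero (a.anti n) hlo
    fun i hi' => hzero i (Or.inl hi')
  have hn1 : a.fil n (n + 1) = ⊥ := Groth.Agent.Lib.SSAbs.Basic.eq_bot_of_isZero (a.anti n) hhi
    fun i hi' => hzero i (Or.inr (by omega))
  have tel : ∀ k, (0 : ℤ) ≤ k → ∑ i ∈ Finset.Ico (0 : ℤ) k,
      Module.finrank K (SpSeq.grPiece (a.fil n) (a.anti n) i : ModuleCat.{v} K) +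
        Module.finrank K (a.fil n k : ModuleCat.{v} K) = Module.finrank K (a.fil n 0 : ModuleCat.{v} K) := by
    intro k hk
    induction k, hk using Int.leInduction with
    | base => simp
    | succ k hk ih =>
      rw [← ih, show Finset.Ico (0 : ℤ) (k + 1) = insert k (Finset.Ico (0 : ℤ) k) by ext; simp; omega,
        Finset.sum_insert (by simp), add_comm (Module.finrank K (SpSeq.grPiece (a.fil n) (a.anti n) k : ModuleCat.{v} K)),
        add_assoc, Groth.Agent.Lib.SSAbs.Finite.finrank_grPiece]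
  have hgr : ∑ i ∈ Finset.Icc (0 : ℤ) n,
      Module.finrank K (SpSeq.grPiece (a.fil n) (a.anti n) i : ModuleCat.{v} K) = Module.finrank K (H n) := by
    have := tel (n + 1) (by omega)
    have hb : Module.finrank K (a.fil n (n + 1) : ModuleCat.{v} K) = 0 := by
      have : Subsingleton (a.fil n (n + 1) : ModuleCat.{v} K) := by
        rw [hn1]
        exact ModuleCat.subsingleton_of_isZero ((isZero_zero _).of_iso Subobject.botCoeIsoZero)
      exact Module.finrank_zero_of_subsingleton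
    have ht : Module.finrank K (a.fil n 0 : ModuleCat.{v} K) = Module.finrank K (H n) := by
      rw [h0]
      exact (asIso (⊤ : Subobject (H n)).arrow).toLinearEquiv.finrank_eq
    rw [hb, add_zero, ht, show Finset.Ico (0 : ℤ) (n + 1) = Finset.Icc (0 : ℤ) n by ext i; simp only [Finset.mem_Ico, Finset.mem_Icc]; omega] at this
    exact this
  have hle : ∀ i, Module.finrank K (SpSeq.grPiece (a.fil n) (a.anti n) i : ModuleCat.{v} K) ≤
      Module.finrank K ((E.page (r' + 1) (Int.le_add_one h₀)).X (i, n - i)) := fun i => by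
    obtain ⟨e⟩ := Groth.Agent.Lib.SSAbs.Basic.nonempty_gr_of_le a (i, n - i) n (by simp)
      (max (r' + 1) (a.rk (i, n - i))) (le_max_right _ _)
    rw [e.toLinearEquiv.finrank_eq]
    exact (finrank_le E hfd _ _ (le_max_left _ _) _).1
  have hle' : ∀ i, Module.finrank K ((E.page (r' + 1) (Int.le_add_one h₀)).X (i, n - i)) ≤
      Module.finrank K ((E.page r₀ le_rfl).X (i, n - i)) := fun i => (finrank_le E hfd le_rfl _ (Int.le_add_one h₀) _).1
  have heq := (Finset.sum_eq_sum_iff_of_le fun i _ => (hle i).trans (hle' i)).1 (hgr.trans hsum.symm) s hs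
  have := (finrank_le E hfd le_rfl r' h₀ (s, n - s)).2
  have h2 := (finrank_le E hfd le_rfl r' h₀ (s, n - s)).1
  obtain ⟨h3, h4⟩ := Groth.Agent.Lib.SSAbs.Finite.finrank_homology (E.page r' h₀)
    (Groth.Agent.Lib.SSAbs.Basic.rel_prev r' (s, n - s)) (Groth.Agent.Lib.SSAbs.Basic.rel_next r' (s, n - s))
  refine h4 (le_antisymm h3 ?_)
  rw [(E.iso r' (r' + 1) (s, n - s) rfl h₀).toLinearEquiv.finrank_eq]
  exact h2.trans (heq.ge.trans (hle s))

end Groth.Agent.H77.DimCount
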