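/-
The Euler characteristic of the pages of a spectral sequence of finite length modules.
-/
import Groth.Agent.Lib.SSAbs.Finite
import Mathlib.Algebra.Ring.NegOnePow
import Mathlib.RingTheory.FiniteLength

set_option autoImplicit false

open CategoryTheory CategoryTheory.Limits

namespace Groth.Agent.H77.EulerPages

universe u

variable {A : Type u} [Ring A] {r₀ : ℤ} (E : CohomologicalSpectralSequence (ModuleCat.{u} A) r₀)

lemma length_eq_zero {M : ModuleCat.{u} A} (h : IsZero M) : Module.length A M = 0 := by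
  have := ModuleCat.subsingleton_of_isZero h
  exact Module.length_eq_zero

lemma length_page_ne_top (hfl : ∀ pq : ℤ × ℤ, IsFiniteLength A ((E.page r₀ le_rfl).X pq)) :
    ∀ (r : ℤ) (hr : r₀ ≤ r) (pq : ℤ × ℤ), Module.length A ((E.page r hr).X pq) ≠ ⊤ := by
  refine Groth.Agent.Lib.SSAbs.Basic.induction_from
    (motive := fun r hr => ∀ pq : ℤ × ℤ, Module.length A ((E.page r hr).X pq) ≠ ⊤) le_rfl
    (fun pq => Module.length_ne_top_iff.2 (hfl pq)) fun k hk _ ih pq h => ih pq ?_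
  rw [← (E.iso k (k + 1) pq rfl hk).toLinearEquiv.length_eq] at h
  rw [Groth.Agent.Lib.SSAbs.Finite.length_homology (E.page k hk)
    (Groth.Agent.Lib.SSAbs.Basic.rel_prev k pq) (Groth.Agent.Lib.SSAbs.Basic.rel_next k pq), h]
  simp

theorem euler_succ (hfl : ∀ pq : ℤ × ℤ, IsFiniteLength A ((E.page r₀ le_rfl).X pq))
    (s : Finset (ℤ × ℤ)) (k : ℤ) (hk : r₀ ≤ k) (hs : ∀ pq, pq ∉ s → IsZero ((E.page k hk).X pq)) :
    (s.sum fun pq => (((pq.1 + pq.2).negOnePow : ℤˣ) : ℤ) *
        ((Module.length A ((E.page (k + 1) (Int.le_add_one hk)).X pq)).toNat : ℤ)) =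
      s.sum fun pq => (((pq.1 + pq.2).negOnePow : ℤˣ) : ℤ) * ((Module.length A ((E.page k hk).X pq)).toNat : ℤ) := by
  let L := E.page k hk
  let v : ℤ × ℤ := (k, 1 - k)
  let ε : ℤ × ℤ → ℤ := fun pq => (((pq.1 + pq.2).negOnePow : ℤˣ) : ℤ)
  let f : ℤ × ℤ → ℤ := fun pq => ((Module.length A (LinearMap.range (L.d pq (pq + v)).hom)).toNat : ℤ)
  have hne := length_page_ne_top E hfl
  have hstep : ∀ pq, ((Module.length A (L.X pq)).toNat : ℤ) = f (pq - v) +
      ((Module.length A ((E.page (k + 1) (Int.le_add_one hk)).X pq)).toNat : ℤ) + f pq := by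
    intro pq
    have h := Groth.Agent.Lib.SSAbs.Finite.length_homology L
      (Groth.Agent.Lib.SSAbs.Basic.rel_prev k pq) (Groth.Agent.Lib.SSAbs.Basic.rel_next k pq)
    rw [(E.iso k (k + 1) pq rfl hk).toLinearEquiv.length_eq] at h
    have ht : Module.length A (L.X pq) ≠ ⊤ := hne k hk pq
    rw [h] at ht
    obtain ⟨ht1, ht3⟩ := WithTop.add_ne_top.1 ht
    obtain ⟨ht1, ht2⟩ := WithTop.add_ne_top.1 ht1
    have e : f (pq - v) = ((Module.length A (LinearMap.range (L.d (pq - v) pq).hom)).toNat : ℤ) := by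
      simp only [f]; rw [sub_add_cancel]
    rw [h, e]
    simp only [f]
    have key : ∀ x y z : ℕ∞, x ≠ ⊤ → y ≠ ⊤ → z ≠ ⊤ →
        (((x + y + z).toNat : ℕ) : ℤ) = (x.toNat : ℤ) + (y.toNat : ℤ) + (z.toNat : ℤ) := by
      intro x y z hx hy hz
      lift x to ℕ using hx
      lift y to ℕ using hy
      lift z to ℕ using hz
      rw [← ENat.coe_add, ← ENat.coe_add, ENat.toNat_coe, ENat.toNat_coe, ENat.toNat_coe, ENat.toNat_coe]
      push_cast; rfl
    exact key _ _ _ ht1 ht2 ht3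
  have hzero : ∀ pq, pq ∉ s ∨ pq + v ∉ s → f pq = 0 := by
    intro pq h
    have hd : L.d pq (pq + v) = 0 := by
      rcases h with h | h
      · exact (hs _ h).eq_of_src _ _
      · exact (hs _ h).eq_of_tgt _ _
    simp only [f]
    rw [hd, ModuleCat.hom_zero, LinearMap.range_zero, Module.length_eq_zero]
    rfl
  have hε : ∀ pq, ε (pq + v) = -ε pq := fun pq => by
    simp only [ε, v, Prod.fst_add, Prod.snd_add]
    rw [show pq.1 + k + (pq.2 + (1 - k)) = pq.1 + pq.2 + 1 by ring, Int.negOnePow_succ]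
    rfl
  have hcancel : ∑ pq ∈ s, ε pq * f (pq - v) + ∑ pq ∈ s, ε pq * f pq = 0 := by
    have h1 : ∑ pq ∈ s, ε pq * f (pq - v) = -∑ t ∈ s.image (fun pq => pq - v), ε t * f t := by
      rw [Finset.sum_image (fun x _ y _ h => sub_left_injective h), ← Finset.sum_neg_distrib]
      refine Finset.sum_congr rfl fun pq _ => ?_
      have := hε (pq - v)
      rw [sub_add_cancel] at this
      rw [this, neg_mul]
    have h2 : ∑ t ∈ s.image (fun pq => pq - v), ε t * f t =
        ∑ t ∈ s ∩ s.image (fun pq => pq - v), ε t * f t := by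
      refine (Finset.sum_subset Finset.inter_subset_right fun t ht ht' => ?_).symm
      rw [hzero t (Or.inl fun h => ht' (Finset.mem_inter.2 ⟨h, ht⟩)), mul_zero]
    have h3 : ∑ t ∈ s, ε t * f t = ∑ t ∈ s ∩ s.image (fun pq => pq - v), ε t * f t := by
      refine (Finset.sum_subset Finset.inter_subset_left fun t ht ht' => ?_).symm
      rw [hzero t (Or.inr fun h => ht' (Finset.mem_inter.2 ⟨ht, Finset.mem_image.2 ⟨t + v, h, add_sub_cancel_right t v⟩⟩)),
        mul_zero]
    rw [h1, h2, h3]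
    ring
  have hsum : ∑ pq ∈ s, ε pq * ((Module.length A (L.X pq)).toNat : ℤ) = ∑ pq ∈ s, ε pq * f (pq - v) +
      ∑ pq ∈ s, ε pq * ((Module.length A ((E.page (k + 1) (Int.le_add_one hk)).X pq)).toNat : ℤ) +
      ∑ pq ∈ s, ε pq * f pq := by
    rw [← Finset.sum_add_distrib, ← Finset.sum_add_distrib]
    exact Finset.sum_congr rfl fun pq _ => by rw [hstep]; ring
  simp only [ε, L] at hsum hcancel
  omega

theorem euler (hfl : ∀ pq : ℤ × ℤ, IsFiniteLength A ((E.page r₀ le_rfl).X pq))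
    (s : Finset (ℤ × ℤ)) (hs : ∀ pq, pq ∉ s → IsZero ((E.page r₀ le_rfl).X pq)) (r : ℤ) (hr : r₀ ≤ r) :
    (s.sum fun pq => (((pq.1 + pq.2).negOnePow : ℤˣ) : ℤ) * ((Module.length A ((E.page r hr).X pq)).toNat : ℤ)) =
      s.sum fun pq => (((pq.1 + pq.2).negOnePow : ℤˣ) : ℤ) * ((Module.length A ((E.page r₀ le_rfl).X pq)).toNat : ℤ) :=
  Groth.Agent.Lib.SSAbs.Basic.induction_from
    (motive := fun r hr =>
      (s.sum fun pq => (((pq.1 + pq.2).negOnePow : ℤˣ) : ℤ) * ((Module.length A ((E.page r hr).X pq)).toNat : ℤ)) =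
        s.sum fun pq => (((pq.1 + pq.2).negOnePow : ℤˣ) : ℤ) * ((Module.length A ((E.page r₀ le_rfl).X pq)).toNat : ℤ))
    le_rfl rfl (fun k hk hk' ih => (euler_succ E hfl s k hk fun pq h =>
      Groth.Agent.Lib.SSAbs.Basic.isZero_page E le_rfl (hs pq h) k hk).trans ih) r hr

end Groth.Agent.H77.EulerPages
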