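/-
Comparison of left exact sequences of acyclic complexes with injective ones.
-/
import Mathlib.Algebra.Homology.HomologicalComplexAbelian
import Mathlib.CategoryTheory.Abelian.Refinements
import Mathlib.CategoryTheory.Preadditive.Injective.Basic
import Mathlib.Algebra.Homology.ShortComplex.HomologicalComplex

set_option autoImplicit false

open CategoryTheory CategoryTheory.Limits

namespace Groth.Agent.H77.Ladder

universe v u

variable {V : Type u} [Category.{v} V] [Abelian V]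

/-- Two compatible partial maps into an injective object extend. -/
theorem extend {P Q Y J : V} [Injective J] (p : P ⟶ Y) (q : Q ⟶ Y) (a : P ⟶ J) (b : Q ⟶ J)
    (h : ∀ ⦃T : V⦄ (u : T ⟶ P) (w : T ⟶ Q), u ≫ p = w ≫ q → u ≫ a = w ≫ b) :
    ∃ f : Y ⟶ J, p ≫ f = a ∧ q ≫ f = b := by
  let m := biprod.desc p q
  have hk : kernel.ι m ≫ biprod.desc a b = 0 := by
    have h0 : (kernel.ι m ≫ biprod.fst) ≫ p = (-(kernel.ι m ≫ biprod.snd)) ≫ q := by
      have := kernel.condition m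
      simp only [m, biprod.desc_eq, Preadditive.comp_add] at this
      rw [Preadditive.neg_comp, Category.assoc, Category.assoc]
      exact eq_neg_of_add_eq_zero_left this
    have h1 := h _ _ h0
    rw [biprod.desc_eq, Preadditive.comp_add]
    simp only [Category.assoc, Preadditive.neg_comp] at h1
    rw [h1, neg_add_cancel]
  let a' : Abelian.coimage m ⟶ J := cokernel.desc _ (biprod.desc a b) hk
  let f := Injective.factorThru a' (Abelian.factorThruCoimage m)
  have hf : m ≫ f = biprod.desc a b := by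
    conv_lhs => rw [← Abelian.coimage.fac m]
    rw [Category.assoc, Injective.comp_factorThru, cokernel.π_desc]
  exact ⟨f, by simpa [m] using biprod.inl ≫= hf, by simpa [m] using biprod.inr ≫= hf⟩

lemma lift_of_exactAt {K : CochainComplex V ℕ} {n : ℕ} (h : K.ExactAt (n + 1)) {T : V}
    (z : T ⟶ K.X (n + 1)) (hz : z ≫ K.d (n + 1) (n + 2) = 0) :
    ∃ (T' : V) (π : T' ⟶ T) (_ : Epi π) (w : T' ⟶ K.X n), π ≫ z = w ≫ K.d n (n + 1) :=
  ((K.exactAt_iff' n (n + 1) (n + 2) (by simp) (by simp)).1 h).exact_up_to_refinements z hz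

variable {C' C C'' I' I I'' : CochainComplex V ℕ} (jC : C' ⟶ C) (πC : C ⟶ C'') (jI : I' ⟶ I) (πI : I ⟶ I'')

/-- The data built in degree `n`. -/
structure Stage (n : ℕ) where
  f' : C'.X n ⟶ I'.X n
  f : C.X n ⟶ I.X n
  f'' : C''.X n ⟶ I''.X n
  sq₁ : jC.f n ≫ f = f' ≫ jI.f n
  sq₂ : πC.f n ≫ f'' = f ≫ πI.f n
  cyc' : ∀ ⦃T : V⦄ (z : T ⟶ C'.X n), z ≫ C'.d n (n + 1) = 0 → z ≫ f' ≫ I'.d n (n + 1) = 0
  cyc : ∀ ⦃T : V⦄ (z : T ⟶ C.X n), z ≫ C.d n (n + 1) = 0 → z ≫ f ≫ I.d n (n + 1) = 0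
  cyc'' : ∀ ⦃T : V⦄ (z : T ⟶ C''.X n), z ≫ C''.d n (n + 1) = 0 → z ≫ f'' ≫ I''.d n (n + 1) = 0

variable (mC : ∀ n, Mono (jC.f n)) (wC : ∀ n, jC.f n ≫ πC.f n = 0)
  (exC : ∀ n, (ShortComplex.mk (jC.f n) (πC.f n) (wC n)).Exact)
  (wI : ∀ n, jI.f n ≫ πI.f n = 0)
  (hC' : ∀ n, 0 < n → C'.ExactAt n) (hC : ∀ n, 0 < n → C.ExactAt n) (hC'' : ∀ n, 0 < n → C''.ExactAt n)
  (injI' : ∀ n, Injective (I'.X n)) (injI : ∀ n, Injective (I.X n)) (injI'' : ∀ n, Injective (I''.X n))

include mC exC hC' hC in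
/-- An element of `C` over a cycle of `C''` is a cycle plus an element of `C'`. -/
lemma split_elt {n : ℕ} {T : V} (c : T ⟶ C.X n) (h : (c ≫ C.d n (n + 1)) ≫ πC.f (n + 1) = 0) :
    ∃ (T' : V) (π : T' ⟶ T) (_ : Epi π) (x' : T' ⟶ C'.X n) (z : T' ⟶ C.X n),
      z ≫ C.d n (n + 1) = 0 ∧ π ≫ c = x' ≫ jC.f n + z := by
  obtain ⟨T₁, π₁, hπ₁, c', hc'⟩ := (exC (n + 1)).exact_up_to_refinements _ h
  dsimp at c' hc'
  have := mC (n + 1)
  have := mC (n + 2)
  have hd : c' ≫ C'.d (n + 1) (n + 2) = 0 := by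
    rw [← cancel_mono (jC.f (n + 2)), Category.assoc, ← jC.comm, ← reassoc_of% hc', C.d_comp_d]
    simp
  obtain ⟨T₂, π₂, hπ₂, x', hx'⟩ := lift_of_exactAt (hC' (n + 1) (Nat.succ_pos n)) c' hd
  refine ⟨T₂, π₂ ≫ π₁, inferInstance, x', π₂ ≫ π₁ ≫ c - x' ≫ jC.f n, ?_, by simp⟩
  rw [Preadditive.sub_comp, Category.assoc, Category.assoc, Category.assoc, hc', reassoc_of% hx', jC.comm, sub_self]

variable {jC πC jI πI}

include mC exC wI hC' hC hC'' injI' injI injI'' in
theorem exists_next {n : ℕ} (S : Stage jC πC jI πI n) :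
    ∃ S' : Stage jC πC jI πI (n + 1), C'.d n (n + 1) ≫ S'.f' = S.f' ≫ I'.d n (n + 1) ∧
      C.d n (n + 1) ≫ S'.f = S.f ≫ I.d n (n + 1) ∧ C''.d n (n + 1) ≫ S'.f'' = S.f'' ≫ I''.d n (n + 1) := by
  have := injI' (n + 1)
  have := injI (n + 1)
  have := injI'' (n + 1)
  have := mC (n + 1)
  obtain ⟨g', -, hg'⟩ := extend (0 : C'.X n ⟶ C'.X (n + 1)) (C'.d n (n + 1)) 0 (S.f' ≫ I'.d n (n + 1))
    fun T u w h => by rw [comp_zero] at h ⊢; exact (S.cyc' w h.symm).symm
  obtain ⟨g, hg1, hg2⟩ := extend (jC.f (n + 1)) (C.d n (n + 1)) (g' ≫ jI.f (n + 1)) (S.f ≫ I.d n (n + 1))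
    fun T u w h => by
      have hu : u ≫ C'.d (n + 1) (n + 2) = 0 := by
        have := mC (n + 2)
        rw [← cancel_mono (jC.f (n + 2)), Category.assoc, ← jC.comm, reassoc_of% h, C.d_comp_d]
        simp
      obtain ⟨T', π, hπ, x', hx'⟩ := lift_of_exactAt (hC' (n + 1) (Nat.succ_pos n)) u hu
      have hz : (π ≫ w - x' ≫ jC.f n) ≫ C.d n (n + 1) = 0 := by
        rw [Preadditive.sub_comp, Category.assoc, Category.assoc, ← h, jC.comm, reassoc_of% hx', sub_self]
      have := S.cyc _ hz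
      rw [Preadditive.sub_comp, sub_eq_zero, Category.assoc, Category.assoc, reassoc_of% S.sq₁, jI.comm] at this
      rw [← cancel_epi π, reassoc_of% hx', reassoc_of% hg', this]
  obtain ⟨g'', hg''1, hg''2⟩ := extend (πC.f (n + 1)) (C''.d n (n + 1)) (g ≫ πI.f (n + 1)) (S.f'' ≫ I''.d n (n + 1))
    fun T c x'' h => by
      have hy : (c ≫ C.d (n + 1) (n + 2)) ≫ πC.f (n + 2) = 0 := by
        rw [Category.assoc, ← πC.comm, reassoc_of% h, C''.d_comp_d, comp_zero]
      obtain ⟨T₁, π₁, hπ₁, x', z, hz, hc⟩ := split_elt jC πC mC wC exC hC' hC c hy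
      obtain ⟨T₂, π₂, hπ₂, x, hx⟩ := lift_of_exactAt (hC (n + 1) (Nat.succ_pos n)) z hz
      have hzc : (x ≫ πC.f n - π₂ ≫ π₁ ≫ x'') ≫ C''.d n (n + 1) = 0 := by
        simp only [Preadditive.sub_comp, Category.assoc]
        rw [← h, πC.comm, ← reassoc_of% hx, reassoc_of% hc]
        simp [wC]
      have := S.cyc'' _ hzc
      rw [Preadditive.sub_comp, sub_eq_zero, Category.assoc, Category.assoc, Category.assoc, reassoc_of% S.sq₂,
        πI.comm] at this
      rw [← cancel_epi π₁, ← cancel_epi π₂, ← this, reassoc_of% hc]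
      simp only [Preadditive.add_comp, Preadditive.comp_add, Category.assoc, reassoc_of% hx, reassoc_of% hg1,
        reassoc_of% hg2, wI, comp_zero, zero_add]
  refine ⟨⟨g', g, g'', hg1, hg''1, fun T z hz => ?_, fun T z hz => ?_, fun T z hz => ?_⟩, hg', hg2, hg''2⟩
  · obtain ⟨T', π, hπ, w, hw⟩ := lift_of_exactAt (hC' (n + 1) (Nat.succ_pos n)) z hz
    rw [← cancel_epi π, reassoc_of% hw, reassoc_of% hg']
    simp
  · obtain ⟨T', π, hπ, w, hw⟩ := lift_of_exactAt (hC (n + 1) (Nat.succ_pos n)) z hz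
    rw [← cancel_epi π, reassoc_of% hw, reassoc_of% hg2]
    simp
  · obtain ⟨T', π, hπ, w, hw⟩ := lift_of_exactAt (hC'' (n + 1) (Nat.succ_pos n)) z hz
    rw [← cancel_epi π, reassoc_of% hw, reassoc_of% hg''2]
    simp

/-- The map on degree zero cycles corresponding to a map on homology. -/
noncomputable def onCycles {K L : CochainComplex V ℕ} (g : K.homology 0 ⟶ L.homology 0) : K.cycles 0 ⟶ L.X 0 :=
  K.homologyπ 0 ≫ g ≫ (CochainComplex.isoHomologyπ₀ L).inv ≫ L.iCycles 0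

lemma onCycles_d {K L : CochainComplex V ℕ} (g : K.homology 0 ⟶ L.homology 0) : onCycles g ≫ L.d 0 1 = 0 := by
  simp [onCycles]

lemma onCycles_nat {K L K' L' : CochainComplex V ℕ} (a : K ⟶ K') (b : L ⟶ L') (g : K.homology 0 ⟶ L.homology 0)
    (g' : K'.homology 0 ⟶ L'.homology 0)
    (h : HomologicalComplex.homologyMap a 0 ≫ g' = g ≫ HomologicalComplex.homologyMap b 0) :
    HomologicalComplex.cyclesMap a 0 ≫ onCycles g' = onCycles g ≫ b.f 0 := by
  rw [onCycles, ← HomologicalComplex.homologyπ_naturality_assoc, reassoc_of% h, onCycles]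
  simp only [Category.assoc]
  congr 2
  rw [← HomologicalComplex.cyclesMap_i, ← Category.assoc, ← Category.assoc]
  congr 1
  exact CochainComplex.isoHomologyπ₀_inv_naturality b

lemma homologyMap_eq {K L : CochainComplex V ℕ} (f : K ⟶ L) (g : K.homology 0 ⟶ L.homology 0)
    (h : K.iCycles 0 ≫ f.f 0 = onCycles g) : HomologicalComplex.homologyMap f 0 = g := by
  rw [← cancel_epi (K.homologyπ 0), HomologicalComplex.homologyπ_naturality]
  have h1 : HomologicalComplex.cyclesMap f 0 = K.homologyπ 0 ≫ g ≫ (CochainComplex.isoHomologyπ₀ L).inv := by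
    rw [← cancel_mono (L.iCycles 0), HomologicalComplex.cyclesMap_i, h, onCycles]
    simp only [Category.assoc]
  rw [h1, Category.assoc, Category.assoc]
  congr 1
  exact (congrArg (g ≫ ·) (CochainComplex.isoHomologyπ₀ L).inv_hom_id).trans (Category.comp_id g)

include mC exC wI hC' hC hC'' injI' injI injI'' in
theorem ladder (g' : C'.homology 0 ⟶ I'.homology 0) (g : C.homology 0 ⟶ I.homology 0)
    (g'' : C''.homology 0 ⟶ I''.homology 0)
    (hg1 : HomologicalComplex.homologyMap jC 0 ≫ g = g' ≫ HomologicalComplex.homologyMap jI 0)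
    (hg2 : HomologicalComplex.homologyMap πC 0 ≫ g'' = g ≫ HomologicalComplex.homologyMap πI 0) :
    ∃ (f' : C' ⟶ I') (f : C ⟶ I) (f'' : C'' ⟶ I''),
      jC ≫ f = f' ≫ jI ∧ πC ≫ f'' = f ≫ πI ∧
      HomologicalComplex.homologyMap f' 0 = g' ∧ HomologicalComplex.homologyMap f 0 = g ∧
      HomologicalComplex.homologyMap f'' 0 = g'' := by
  have := injI' 0
  have := injI 0
  have := injI'' 0
  have := mC 0
  have := mC 1
  have hlift : ∀ {K : CochainComplex V ℕ} {T : V} (z : T ⟶ K.X 0), z ≫ K.d 0 1 = 0 →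
      ∃ w : T ⟶ K.cycles 0, z = w ≫ K.iCycles 0 := fun {K T} z hz =>
    ⟨K.liftCycles z 1 (by simp) hz, (HomologicalComplex.liftCycles_i _ _ _ _ _).symm⟩
  obtain ⟨a', ha'⟩ : ∃ a' : C'.X 0 ⟶ I'.X 0, C'.iCycles 0 ≫ a' = onCycles g' :=
    ⟨Injective.factorThru (onCycles g') (C'.iCycles 0), Injective.comp_factorThru _ _⟩
  obtain ⟨a, ha1, ha2⟩ := extend (jC.f 0) (C.iCycles 0) (a' ≫ jI.f 0) (onCycles g) fun T u w h => by
    have hu : u ≫ C'.d 0 1 = 0 := by
      rw [← cancel_mono (jC.f 1), Category.assoc, ← jC.comm, reassoc_of% h]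
      simp
    obtain ⟨u', rfl⟩ := hlift u hu
    have hw : w = u' ≫ HomologicalComplex.cyclesMap jC 0 := by
      rw [← cancel_mono (C.iCycles 0), ← h]
      simp
    rw [hw, Category.assoc, Category.assoc, reassoc_of% ha', onCycles_nat jC jI g' g hg1]
  obtain ⟨a'', ha''1, ha''2⟩ := extend (πC.f 0) (C''.iCycles 0) (a ≫ πI.f 0) (onCycles g'') fun T c w h => by
    have hy : (c ≫ C.d 0 1) ≫ πC.f 1 = 0 := by
      rw [Category.assoc, ← πC.comm, reassoc_of% h]
      simp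
    obtain ⟨T₁, π₁, hπ₁, x', z, hz, hc⟩ := split_elt jC πC mC wC exC hC' hC c hy
    obtain ⟨z', rfl⟩ := hlift z hz
    have hw : π₁ ≫ w = z' ≫ HomologicalComplex.cyclesMap πC 0 := by
      rw [← cancel_mono (C''.iCycles 0), Category.assoc, ← h, reassoc_of% hc]
      simp [wC]
    rw [← cancel_epi π₁, reassoc_of% hw, reassoc_of% hc, onCycles_nat πC πI g g'' hg2]
    simp only [Preadditive.add_comp, Category.assoc, reassoc_of% ha1, reassoc_of% ha2, wI, comp_zero, zero_add]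
  have hcyc : ∀ {K L : CochainComplex V ℕ} (f : K.X 0 ⟶ L.X 0) (g : K.homology 0 ⟶ L.homology 0),
      K.iCycles 0 ≫ f = onCycles g → ∀ ⦃T : V⦄ (z : T ⟶ K.X 0), z ≫ K.d 0 1 = 0 → z ≫ f ≫ L.d 0 1 = 0 := by
    intro K L f g h T z hz
    obtain ⟨w, rfl⟩ := hlift z hz
    rw [Category.assoc, reassoc_of% h, onCycles_d, comp_zero]
  let S : ∀ n, Stage jC πC jI πI n := fun n => Nat.rec
    ⟨a', a, a'', ha1, ha''1, hcyc a' g' ha', hcyc a g ha2, hcyc a'' g'' ha''2⟩
    (fun n S => (exists_next mC wC exC wI hC' hC hC'' injI' injI injI'' S).choose) n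
  have hS := fun n => (exists_next mC wC exC wI hC' hC hC'' injI' injI injI'' (S n)).choose_spec
  refine ⟨{ f := fun n => (S n).f', comm' := ?_ }, { f := fun n => (S n).f, comm' := ?_ },
    { f := fun n => (S n).f'', comm' := ?_ }, ?_, ?_, ?_, ?_, ?_⟩
  · rintro i j rfl; exact (hS i).1.symm
  · rintro i j rfl; exact (hS i).2.1.symm
  · rintro i j rfl; exact (hS i).2.2.symm
  · ext n; exact (S n).sq₁
  · ext n; exact (S n).sq₂
  · exact homologyMap_eq _ _ ha'
  · exact homologyMap_eq _ _ ha2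
  · exact homologyMap_eq _ _ ha''2

end Groth.Agent.H77.Ladder
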