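/-
Higher derived limits of towers of abelian groups vanish.
-/
import Groth.Agent.H77.MLUtil
import Mathlib.CategoryTheory.Abelian.RightDerived
import Mathlib.CategoryTheory.Abelian.FunctorCategory
import Mathlib.CategoryTheory.Limits.Preserves.FunctorCategory

set_option autoImplicit false

open CategoryTheory CategoryTheory.Limits Opposite

namespace Groth.Agent.H77.LimDerived

open Groth.Agent.Lib.MLSeq.Basic Groth.Agent.Lib.MLSeq.Complex

universe u

/-- The tower of finite products. -/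
def cofree (I : ℕᵒᵖ ⥤ AddCommGrpCat.{u}) : ℕᵒᵖ ⥤ AddCommGrpCat.{u} where
  obj i := AddCommGrpCat.of (∀ k : {k : ℕ // k ≤ i.unop}, I.obj (op k.1))
  map f := AddCommGrpCat.ofHom
    { toFun := fun x k => x ⟨k.1, k.2.trans (leOfHom f.unop)⟩
      map_zero' := rfl
      map_add' := fun _ _ => rfl }
  map_id _ := rfl
  map_comp _ _ := rfl

/-- The embedding into the tower of finite products. -/
def toCofree (I : ℕᵒᵖ ⥤ AddCommGrpCat.{u}) : I ⟶ cofree I where
  app i := AddCommGrpCat.ofHom
    { toFun := fun x k => tr I k.2 x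
      map_zero' := funext fun k => map_zero (tr I k.2)
      map_add' := fun x y => funext fun k => map_add (tr I k.2) x y }
  naturality i j f := by
    ext x
    funext k
    exact tr_tr (F := I) k.2 (leOfHom f.unop) x

instance mono_toCofree_app (I : ℕᵒᵖ ⥤ AddCommGrpCat.{u}) (i : ℕᵒᵖ) : Mono ((toCofree I).app i) := by
  rw [AddCommGrpCat.mono_iff_injective]
  intro x y hxy
  have h : tr I (le_refl i.unop) x = tr I (le_refl i.unop) y := congrFun hxy ⟨i.unop, le_rfl⟩
  rwa [tr_self, tr_self] at h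

lemma surjective_of_injective (I : ℕᵒᵖ ⥤ AddCommGrpCat.{u}) [Injective I] {i j : ℕ} (h : i ≤ j) :
    Function.Surjective (tr I h) := by
  have : Mono (toCofree I) := NatTrans.mono_of_mono_app _
  intro x
  let r : cofree I ⟶ I := Injective.factorThru (𝟙 I) (toCofree I)
  let y : (cofree I).obj (op j) := fun k =>
    if hk : k.1 ≤ i then ((toCofree I).app (op i)).hom x ⟨k.1, hk⟩ else 0
  refine ⟨(r.app (op j)).hom y, ?_⟩
  rw [← app_tr r h y]
  have hy : tr (cofree I) h y = ((toCofree I).app (op i)).hom x := by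
    funext k
    exact dif_pos k.2
  rw [hy]
  exact congrArg (fun f : I ⟶ I => (f.app (op i)).hom x) (Injective.comp_factorThru (𝟙 I) (toCofree I))

lemma ml_injective (I : ℕᵒᵖ ⥤ AddCommGrpCat.{u}) [Injective I] : ML I :=
  ml_of_surjective fun _ _ h => surjective_of_injective I h

theorem isZero_rightDerived [EnoughInjectives (ℕᵒᵖ ⥤ AddCommGrpCat.{u})]
    [(lim : (ℕᵒᵖ ⥤ AddCommGrpCat.{u}) ⥤ AddCommGrpCat.{u}).Additive]
    (A : ℕᵒᵖ ⥤ AddCommGrpCat.{u}) (i : ℕ) (hi : 2 ≤ i) :
    IsZero (((lim : (ℕᵒᵖ ⥤ AddCommGrpCat.{u}) ⥤ AddCommGrpCat.{u}).rightDerived i).obj A) := by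
  obtain ⟨k, rfl⟩ : ∃ k, i = k + 2 := ⟨i - 2, by omega⟩
  let R := InjectiveResolution.of A
  refine IsZero.of_iso ?_ (R.isoRightDerivedObj lim (k + 2))
  refine (HomologicalComplex.exactAt_iff_isZero_homology _ _).1 ?_
  rw [HomologicalComplex.exactAt_iff' _ (k + 1) (k + 2) (k + 3) (by simp) (by simp),
    ShortComplex.ab_exact_iff]
  intro x hx
  have hx' : (limMap (R.cocomplex.d (k + 2) (k + 3))).hom x = 0 := hx
  have hex : ∀ (j : ℕ) (n : ℕᵒᵖ),
      (((R.cocomplex.d (j + 1) (j + 2)).app n).hom.ker = ((R.cocomplex.d j (j + 1)).app n).hom.range) := by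
    intro j n
    have h1 := ((HomologicalComplex.exactAt_iff' R.cocomplex j (j + 1) (j + 2) (by simp) (by simp)).1
      (R.cocomplex_exactAt_succ j)).map ((evaluation _ _).obj n)
    refine le_antisymm (fun y hy => ?_) ?_
    · exact (ShortComplex.ab_exact_iff _).1 h1 y hy
    · rintro _ ⟨y, rfl⟩
      exact congrArg (fun f => (f.app n).hom y) (R.cocomplex.d_comp_d j (j + 1) (j + 2))
  exact MLUtil.lim_mem_range (φ := id) monotone_id (fun n => ⟨n, le_rfl⟩)
    (R.cocomplex.d k (k + 1)) (R.cocomplex.d (k + 1) (k + 2)) (hex k) (ml_injective _) x (fun n => by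
      refine (hex (k + 1) (op n)).le ?_
      have h := congrArg (fun f => f.hom x) (limMap_π (R.cocomplex.d (k + 2) (k + 3)) (op n))
      refine h.symm.trans ?_
      change (limit.π (R.cocomplex.X (k + 3)) (op n)).hom ((limMap (R.cocomplex.d (k + 2) (k + 3))).hom x) = 0
      rw [hx', map_zero])

end Groth.Agent.H77.LimDerived
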