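/-
The `lim¹` part of the cohomology of the limit of a tower of complexes of abelian groups.
-/
import Groth.Agent.H77.MLUtil
import Groth.Prelude.Def_Formal2

set_option autoImplicit false

open CategoryTheory CategoryTheory.Limits Opposite

namespace Groth.Agent.H77.LimOne

open Groth.Agent.Lib.MLSeq.Basic Groth.Agent.Lib.MLSeq.Complex

universe u

variable {κ : Type} {c : ComplexShape κ} (K : ℕᵒᵖ ⥤ HomologicalComplex AddCommGrpCat.{u} c)

/-- Differential at level `n`. -/
abbrev dd (q p : κ) (n : ℕ) : (deg K q).obj (op n) →+ (deg K p).obj (op n) := ((dNat K q p).app (op n)).hom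

lemma dd_tr (q p : κ) {m n : ℕ} (h : m ≤ n) (x : (deg K q).obj (op n)) :
    dd K q p m (tr (deg K q) h x) = tr (deg K p) h (dd K q p n x) :=
  app_tr (dNat K q p) h x

/-- Families whose differential is compatible. -/
def G (q p : κ) : AddSubgroup (∀ n : ℕ, (deg K q).obj (op n)) where
  carrier := {w | ∀ n, dd K q p n (w n - tr (deg K q) (Nat.le_succ n) (w (n + 1))) = 0}
  zero_mem' n := by simp
  add_mem' {a b} ha hb n := by
    have h : (a + b) n - tr (deg K q) (Nat.le_succ n) ((a + b) (n + 1)) =
        (a n - tr (deg K q) (Nat.le_succ n) (a (n + 1))) +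
          (b n - tr (deg K q) (Nat.le_succ n) (b (n + 1))) := by
      simp only [Pi.add_apply, map_add]; abel
    rw [h, map_add, ha n, hb n, add_zero]
  neg_mem' {a} ha n := by
    have h : (-a) n - tr (deg K q) (Nat.le_succ n) ((-a) (n + 1)) =
        -(a n - tr (deg K q) (Nat.le_succ n) (a (n + 1))) := by
      simp only [Pi.neg_apply, map_neg]; abel
    rw [h, map_neg, ha n, neg_zero]

lemma G_compatible {q p : κ} {w : ∀ n : ℕ, (deg K q).obj (op n)} (hw : w ∈ G K q p) (n : ℕ) :
    tr (deg K p) (Nat.le_succ n) (dd K q p (n + 1) (w (n + 1))) = dd K q p n (w n) := by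
  have := hw n
  rw [map_sub, dd_tr, sub_eq_zero] at this
  exact this.symm

variable {o q p r : κ}

/-- Inclusion of cycles at level `n`. -/
noncomputable abbrev iCy (q : κ) (n : ℕ) : (cyc K q).obj (op n) →+ (deg K q).obj (op n) :=
  ((iCyclesNat K q).app (op n)).hom

/-- Into cycles at level `n`. -/
noncomputable abbrev toCy (o q : κ) (n : ℕ) : (deg K o).obj (op n) →+ (cyc K q).obj (op n) :=
  ((toCyclesNat K o q).app (op n)).hom

/-- Class at level `n`. -/
noncomputable abbrev hPi (q : κ) (n : ℕ) : (cyc K q).obj (op n) →+ (K.obj (op n)).homology q :=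
  ((K.obj (op n)).homologyπ q).hom

/-- Projection from the limit at level `n`. -/
noncomputable abbrev proj (q : κ) (n : ℕ) : (limit K).X q →+ (deg K q).obj (op n) :=
  ((limit.π K (op n)).f q).hom

lemma tr_proj (n : ℕ) (y : (limit K).X q) :
    tr (deg K q) (Nat.le_succ n) (proj K q (n + 1) y) = proj K q n y :=
  congrArg (fun f => f.hom y) (congrArg (fun g => g.f q) (limit.w K (homOfLE (Nat.le_succ n)).op))

lemma exists_cy (hqp : c.Rel q p) (n : ℕ) (x : (deg K q).obj (op n)) (h : dd K q p n x = 0) :
    ∃ z, iCy K q n z = x :=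
  exists_cycle (K.obj (op n)) hqp x h

lemma dd_iCy (n : ℕ) (z : (cyc K q).obj (op n)) : dd K q p n (iCy K q n z) = 0 :=
  d_iCycles (K.obj (op n)) q p z

lemma iCy_injective (n : ℕ) : Function.Injective (iCy K q n) := iCycles_injective _ q

lemma iCy_toCy (n : ℕ) (e : (deg K o).obj (op n)) : iCy K q n (toCy K o q n e) = dd K o q n e :=
  iCycles_toCycles _ o q e

lemma hPi_eq_zero (hoq : c.Rel o q) (n : ℕ) (z : (cyc K q).obj (op n)) :
    hPi K q n z = 0 ↔ ∃ y, toCy K o q n y = z :=
  homologyπ_eq_zero_iff _ hoq z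

lemma hPi_surjective (n : ℕ) : Function.Surjective (hPi K q n) :=
  homologyπ_surjective (K.obj (op n)) q

lemma exists_psi (hpr : c.Rel p r) (w : G K q p) :
    ∃ z : (limit K).cycles p, ∀ n : ℕ,
      proj K p n (((limit K).iCycles p).hom z) = dd K q p n (w.1 n) := by
  obtain ⟨β, hβ, hβn⟩ := exists_extend (φ := id) monotone_id (fun i => ⟨i, le_rfl⟩) (F := deg K p)
    (fun n => dd K q p n (w.1 n)) (G_compatible K w.2)
  obtain ⟨x, hx⟩ := exists_lim K p β hβ
  obtain ⟨z, hz⟩ := exists_cycle (limit K) hpr x (lim_ext K r fun i => by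
    rw [d_π, hx, show β i = dd K q p i (w.1 i) from hβn i]
    refine Eq.trans ?_ (map_zero _).symm
    exact congrArg (fun f => f.hom (w.1 i)) ((K.obj (op i)).d_comp_d q p r))
  refine ⟨z, fun n => ?_⟩
  change ((limit.π K (op n)).f p).hom _ = _
  rw [hz, hx]
  exact hβn n

lemma cycles_ext {z z' : (limit K).cycles p}
    (h : ∀ n : ℕ, proj K p n (((limit K).iCycles p).hom z) =
      proj K p n (((limit K).iCycles p).hom z')) : z = z' :=
  iCycles_injective _ p (lim_ext K p h)

lemma proj_iCycles (n : ℕ) (z : (limit K).cycles p) :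
    iCy K p n ((HomologicalComplex.cyclesMap (limit.π K (op n)) p).hom z) =
      proj K p n (((limit K).iCycles p).hom z) :=
  iCycles_cyclesMap K p z n

lemma proj_toCycles (n : ℕ) (y : (limit K).X q) :
    proj K p n (((limit K).iCycles p).hom (((limit K).toCycles q p).hom y)) =
      dd K q p n (proj K q n y) := by
  rw [iCycles_toCycles]
  exact d_π K q p y n

/-- The kernel of the comparison map. -/
noncomputable abbrev kerPost (p : κ) : AddSubgroup ((limit K).homology p) :=
  (limit.post K (HomologicalComplex.homologyFunctor _ _ p)).hom.ker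

/-- The cycle attached to a family. -/
noncomputable def psiCyc (hpr : c.Rel p r) : G K q p →+ (limit K).cycles p :=
  AddMonoidHom.mk' (fun w => (exists_psi K hpr w).choose) fun w w' => cycles_ext K fun n => by
    rw [map_add, map_add, (exists_psi K hpr w).choose_spec, (exists_psi K hpr w').choose_spec,
      (exists_psi K hpr (w + w')).choose_spec]
    exact map_add (dd K q p n) _ _

lemma psiCyc_spec (hpr : c.Rel p r) (w : G K q p) (n : ℕ) :
    proj K p n (((limit K).iCycles p).hom (psiCyc K hpr w)) = dd K q p n (w.1 n) :=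
  (exists_psi K hpr w).choose_spec n

/-- To the kernel. -/
noncomputable def psi (hqp : c.Rel q p) (hpr : c.Rel p r) : G K q p →+ kerPost K p :=
  AddMonoidHom.codRestrict (((limit K).homologyπ p).hom.comp (psiCyc K hpr)) _ fun w => by
    refine AddMonoidHom.mem_ker.2 (Groth.Agent.Lib.MLSeq.Complex.ext (hom' K p) fun i => ?_)
    refine (post_π K p _ i).trans (Eq.trans ?_ (map_zero _).symm)
    refine (homologyπ_eq_zero_iff _ hqp _).2 ⟨w.1 i, iCycles_injective _ p ?_⟩
    exact (iCycles_toCycles _ q p _).trans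
      ((psiCyc_spec K hpr w i).symm.trans (iCycles_cyclesMap K p _ i).symm)

lemma exists_chi (hqp : c.Rel q p) (w : G K q p) (n : ℕ) :
    ∃ z, iCy K q n z = w.1 n - tr (deg K q) (Nat.le_succ n) (w.1 (n + 1)) :=
  exists_cy K hqp n _ (w.2 n)

/-- The cycles of differences. -/
noncomputable def chiCyc (hqp : c.Rel q p) : G K q p →+ ∀ n : ℕ, (cyc K q).obj (op n) :=
  AddMonoidHom.mk' (fun w n => (exists_chi K hqp w n).choose) fun w w' => funext fun n => by
    apply iCy_injective
    rw [Pi.add_apply, map_add, (exists_chi K hqp w n).choose_spec, (exists_chi K hqp w' n).choose_spec,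
      (exists_chi K hqp (w + w') n).choose_spec]
    simp only [AddSubgroup.coe_add, Pi.add_apply, map_add]
    abel

lemma chiCyc_spec (hqp : c.Rel q p) (w : G K q p) (n : ℕ) :
    iCy K q n (chiCyc K hqp w n) = w.1 n - tr (deg K q) (Nat.le_succ n) (w.1 (n + 1)) :=
  (exists_chi K hqp w n).choose_spec

/-- The transition maps in homology. -/
noncomputable abbrev tH (q : κ) (n : ℕ) : (K.obj (op (n + 1))).homology q →+ (K.obj (op n)).homology q :=
  (HomologicalComplex.homologyMap (K.map (homOfLE (Nat.le_succ n)).op) q).hom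

/-- To `lim¹`. -/
noncomputable def chi (hqp : c.Rel q p) :
    G K q p →+ Formal2.limOne (fun n : ℕ => (K.obj (op n)).homology q) (tH K q) :=
  (QuotientAddGroup.mk' _).comp (AddMonoidHom.mk'
    (fun w => fun n => hPi K q n (chiCyc K hqp w n))
    fun w w' => funext fun n => by simp only [map_add, Pi.add_apply])

lemma tH_π (n : ℕ) (z : (cyc K q).obj (op (n + 1))) :
    tH K q n (hPi K q (n + 1) z) = hPi K q n (tr (cyc K q) (Nat.le_succ n) z) :=
  congrArg (fun f => f.hom z) (HomologicalComplex.homologyπ_naturality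
    (K.map (homOfLE (Nat.le_succ n)).op) q)

lemma surjective_tr (hK : ∀ (n : ℕ), Function.Surjective (tr (deg K q) (Nat.le_succ n))) {m n : ℕ}
    (h : m ≤ n) : Function.Surjective (tr (deg K q) h) := by
  induction h with
  | refl => exact fun x => ⟨x, tr_self _ x⟩
  | @step k hk ih =>
    intro x
    obtain ⟨y, hy⟩ := ih x
    obtain ⟨z, hz⟩ := hK k y
    exact ⟨z, by rw [← tr_tr (F := deg K q) hk (Nat.le_succ k), hz, hy]⟩

theorem main (hoq : c.Rel o q) (hqp : c.Rel q p) (hpr : c.Rel p r)
    (hKo : ∀ n : ℕ, Function.Surjective (tr (deg K o) (Nat.le_succ n)))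
    (hKq : ∀ n : ℕ, Function.Surjective (tr (deg K q) (Nat.le_succ n))) :
    Function.Surjective (limit.post K (HomologicalComplex.homologyFunctor _ _ p)).hom ∧
      Nonempty (kerPost K p ≃+ Formal2.limOne (fun n : ℕ => (K.obj (op n)).homology q) (tH K q)) := by
  have hMo : ML (deg K o) := ml_of_surjective fun _ _ h => surjective_tr K hKo h
  have hMq : ML (deg K q) := ml_of_surjective fun _ _ h => surjective_tr K hKq h
  refine ⟨post_surjective K (φ := id) monotone_id (fun i => ⟨i, le_rfl⟩) hqp hpr hMq, ?_⟩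
  have hψ : Function.Surjective (psi K hqp hpr) := by
    rintro ⟨h, hh⟩
    obtain ⟨z, rfl⟩ := homologyπ_surjective (limit K) p h
    have hex : ∀ n, ∃ y, dd K q p n y = proj K p n (((limit K).iCycles p).hom z) := by
      intro n
      obtain ⟨y, hy⟩ := (hPi_eq_zero K hqp n _).1 (show hPi K p n
          ((HomologicalComplex.cyclesMap (limit.π K (op n)) p).hom z) = 0 from
        (post_π K p z n).symm.trans ((congrArg _ (AddMonoidHom.mem_ker.1 hh)).trans (map_zero _)))
      exact ⟨y, by rw [← iCy_toCy, hy, proj_iCycles]⟩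
    choose w hw using hex
    have hwG : w ∈ G K q p := fun n => by
      rw [map_sub, dd_tr, hw, hw, tr_proj, sub_self]
    refine ⟨⟨w, hwG⟩, Subtype.ext (congrArg ((limit K).homologyπ p).hom (cycles_ext K fun n => ?_))⟩
    rw [psiCyc_spec, hw]
  have hχ : Function.Surjective (chi K hqp) := by
    intro h
    obtain ⟨h, rfl⟩ := QuotientAddGroup.mk'_surjective _ h
    choose z hz using fun n => hPi_surjective K (q := q) n (h n)
    obtain ⟨w, hw⟩ : ∃ w : ∀ n : ℕ, (deg K q).obj (op n), ∀ n,
        w n - tr (deg K q) (Nat.le_succ n) (w (n + 1)) = iCy K q n (z n) :=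
      exists_primitive (φ := id) monotone_id (fun i => ⟨i, le_rfl⟩) hMq (fun n => iCy K q n (z n))
    have hwG : w ∈ G K q p := fun n => by rw [hw, dd_iCy]
    refine ⟨⟨w, hwG⟩, congrArg (QuotientAddGroup.mk' _) (funext fun n => ?_)⟩
    refine Eq.trans (congrArg (hPi K q n) ?_) (hz n)
    exact iCy_injective K n ((chiCyc_spec K hqp _ n).trans (hw n))
  have hker : (psi K hqp hpr).ker = (chi K hqp).ker := by
    ext w
    constructor
    · intro hw
      have h0 : ((limit K).homologyπ p).hom (psiCyc K hpr w) = 0 := congrArg Subtype.val hw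
      obtain ⟨y, hy⟩ := (homologyπ_eq_zero_iff _ hqp _).1 h0
      have hd : ∀ n, dd K q p n (w.1 n - proj K q n y) = 0 := fun n => by
        rw [map_sub, ← psiCyc_spec K hpr w n, ← hy, proj_toCycles, sub_self]
      choose z hz using fun n => exists_cy K hqp n _ (hd n)
      refine (QuotientAddGroup.eq_zero_iff _).2 ⟨fun n => hPi K q n (z n), funext fun n => ?_⟩
      change hPi K q n (z n) - tH K q n (hPi K q (n + 1) (z (n + 1))) = hPi K q n (chiCyc K hqp w n)
      rw [tH_π, ← map_sub]
      refine congrArg _ (iCy_injective K n ?_)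
      rw [chiCyc_spec, map_sub, hz n]
      erw [app_tr (iCyclesNat K q) (Nat.le_succ n) (z (n + 1))]
      change _ - tr (deg K q) (Nat.le_succ n) (iCy K q (n + 1) (z (n + 1))) = _
      rw [hz (n + 1), map_sub, tr_proj]
      abel
    · intro hw
      obtain ⟨h, hh⟩ := (QuotientAddGroup.eq_zero_iff _).1 (AddMonoidHom.mem_ker.1 hw)
      choose z hz using fun n => hPi_surjective K (q := q) n (h n)
      have he : ∀ n, ∃ e, toCy K o q n e =
          chiCyc K hqp w n - (z n - tr (cyc K q) (Nat.le_succ n) (z (n + 1))) := fun n => by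
        refine (hPi_eq_zero K hoq n _).1 ?_
        rw [map_sub, map_sub, ← tH_π, hz, hz, sub_eq_zero]
        exact (congrFun hh n).symm
      choose e he using he
      obtain ⟨f, hf⟩ : ∃ f : ∀ n : ℕ, (deg K o).obj (op n), ∀ n,
          f n - tr (deg K o) (Nat.le_succ n) (f (n + 1)) = e n :=
        exists_primitive (φ := id) monotone_id (fun i => ⟨i, le_rfl⟩) hMo e
      let z' : ∀ n, (cyc K q).obj (op n) := fun n => z n + toCy K o q n (f n)
      let y : ∀ n, (deg K q).obj (op n) := fun n => w.1 n - iCy K q n (z' n)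
      have hz' : ∀ n, z' n - tr (cyc K q) (Nat.le_succ n) (z' (n + 1)) = chiCyc K hqp w n := fun n => by
        have h1 := congrArg (toCy K o q n) (hf n)
        rw [map_sub, he n] at h1
        erw [app_tr (toCyclesNat K o q) (Nat.le_succ n) (f (n + 1))] at h1
        change (z n + toCy K o q n (f n)) -
          tr (cyc K q) (Nat.le_succ n) (z (n + 1) + toCy K o q (n + 1) (f (n + 1))) = _
        rw [map_add, add_sub_add_comm]
        erw [h1]
        exact add_sub_cancel _ _
      have hy : ∀ n, tr (deg K q) (Nat.le_succ n) (y (n + 1)) = y n := fun n => by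
        have h1 := congrArg (iCy K q n) (hz' n)
        rw [map_sub, chiCyc_spec] at h1
        erw [app_tr (iCyclesNat K q) (Nat.le_succ n) (z' (n + 1))] at h1
        simp only [y, map_sub]
        exact (sub_eq_sub_iff_sub_eq_sub.1 h1.symm).symm
      obtain ⟨β, hβ, hβn⟩ := exists_extend (φ := id) monotone_id (fun i => ⟨i, le_rfl⟩) (F := deg K q) y hy
      obtain ⟨x, hx⟩ := exists_lim K q β hβ
      refine Subtype.ext ((homologyπ_eq_zero_iff _ hqp _).2 ⟨x, cycles_ext K fun n => ?_⟩)
      rw [proj_toCycles, psiCyc_spec, show proj K q n x = y n from (hx n).trans (hβn n)]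
      simp only [y, map_sub, dd_iCy, sub_zero]
  exact ⟨((QuotientAddGroup.quotientKerEquivOfSurjective (psi K hqp hpr) hψ).symm.trans
    (QuotientAddGroup.quotientAddEquivOfEq hker)).trans
      (QuotientAddGroup.quotientKerEquivOfSurjective (chi K hqp) hχ)⟩

end Groth.Agent.H77.LimOne
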