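/-
An injective resolution lying degreewise split over a given injective resolution.
-/
import Mathlib.CategoryTheory.Abelian.Injective.Resolution

set_option autoImplicit false

open CategoryTheory CategoryTheory.Limits

namespace Groth.Agent.H77.ResOver

universe v u

noncomputable section

variable {C : Type u} [Category.{v} C] [Abelian C] [EnoughInjectives C] {G F : C} (α : G ⟶ F)
  (I : InjectiveResolution F)

def ι₀ : F ⟶ I.cocomplex.X 0 := I.ι.f 0

lemma ι₀_d : ι₀ I ≫ I.cocomplex.d 0 1 = 0 := I.ι_f_zero_comp_complex_d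

structure Step (p : ℕ) where
  src : C
  K : C
  inj : Injective K
  dd : src ⟶ I.cocomplex.X p ⊞ K
  w : dd ≫ biprod.fst ≫ I.cocomplex.d p (p + 1) = 0

def next {p : ℕ} (S : Step I p) : Step I (p + 1) where
  src := I.cocomplex.X p ⊞ S.K
  K := Injective.under (cokernel S.dd)
  inj := inferInstance
  dd := cokernel.π S.dd ≫ biprod.lift (cokernel.desc S.dd (biprod.fst ≫ I.cocomplex.d p (p + 1)) S.w)
    (Injective.ι (cokernel S.dd))
  w := by simp

def step : ∀ p, Step I p
  | 0 =>
    { src := G
      K := Injective.under G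
      inj := inferInstance
      dd := biprod.lift (α ≫ ι₀ I) (Injective.ι G)
      w := by rw [biprod.lift_fst_assoc, Category.assoc, ι₀_d, comp_zero] }
  | p + 1 => next I (step p)

abbrev X (p : ℕ) : C := I.cocomplex.X p ⊞ (step α I p).K

def dX (p : ℕ) : X α I p ⟶ X α I (p + 1) := (step α I (p + 1)).dd

lemma dd_dX (p : ℕ) : (step α I p).dd ≫ dX α I p = 0 := by
  change (step α I p).dd ≫ cokernel.π (step α I p).dd ≫ _ = 0
  exact cokernel.condition_assoc _ _ |>.trans zero_comp

lemma dX_dX (p : ℕ) : dX α I p ≫ dX α I (p + 1) = 0 := dd_dX α I (p + 1)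

lemma mono_lift (p : ℕ) : Mono (biprod.lift (cokernel.desc (step α I p).dd (biprod.fst ≫ I.cocomplex.d p (p + 1))
    (step α I p).w) (Injective.ι (cokernel (step α I p).dd))) := by
  have : Mono (biprod.lift (cokernel.desc (step α I p).dd (biprod.fst ≫ I.cocomplex.d p (p + 1))
      (step α I p).w) (Injective.ι (cokernel (step α I p).dd)) ≫ biprod.snd) := by
    rw [biprod.lift_snd]; infer_instance
  exact mono_of_mono _ biprod.snd

lemma exact_dd (p : ℕ) : (ShortComplex.mk (step α I p).dd (dX α I p) (dd_dX α I p)).Exact := by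
  have hml := mono_lift α I p
  let φ : ShortComplex.mk (step α I p).dd (cokernel.π (step α I p).dd) (cokernel.condition _) ⟶
      ShortComplex.mk (step α I p).dd (dX α I p) (dd_dX α I p) :=
    { τ₁ := 𝟙 _
      τ₂ := 𝟙 _
      τ₃ := biprod.lift (cokernel.desc (step α I p).dd (biprod.fst ≫ I.cocomplex.d p (p + 1))
        (step α I p).w) (Injective.ι (cokernel (step α I p).dd))
      comm₁₂ := (Category.id_comp _).trans (Category.comp_id _).symm
      comm₂₃ := Category.id_comp _ }
  have : Epi φ.τ₁ := by dsimp [φ]; infer_instance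
  have : IsIso φ.τ₂ := by dsimp [φ]; infer_instance
  have : Mono φ.τ₃ := hml
  exact (ShortComplex.exact_iff_of_epi_of_isIso_of_mono φ).1
    (ShortComplex.exact_of_g_is_cokernel _ (cokernelIsCokernel _))

def J : CochainComplex C ℕ := CochainComplex.of (X α I) (dX α I) (dX_dX α I)

lemma J_d (p : ℕ) : (J α I).d p (p + 1) = dX α I p := CochainComplex.of_d (X α I) (dX α I) p

def augm : (CochainComplex.single₀ C).obj G ⟶ J α I :=
  (CochainComplex.fromSingle₀Equiv _ _).symm ⟨(step α I 0).dd, by
    rw [J_d α I 0]; exact dd_dX α I 0⟩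

lemma augm_f : (augm α I).f 0 = (step α I 0).dd :=
  CochainComplex.fromSingle₀Equiv_symm_apply_f_zero _ _

def res : InjectiveResolution G where
  cocomplex := J α I
  injective n := by
    have := (step α I n).inj
    exact (inferInstance : Injective (I.cocomplex.X n ⊞ (step α I n).K))
  ι := augm α I
  quasiIso := ⟨fun n => by
    cases n
    · rw [CochainComplex.quasiIsoAt₀_iff, ShortComplex.quasiIso_iff_of_zeros]
      · refine (ShortComplex.exact_and_mono_f_iff_of_iso ?_).2
          ⟨exact_dd α I 0, ?_⟩
        · exact ShortComplex.isoMk (Iso.refl _) (Iso.refl _) (Iso.refl _)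
            ((Category.id_comp _).trans ((augm_f α I).symm.trans
              (Category.comp_id _).symm))
            ((Category.id_comp _).trans ((J_d α I 0).symm.trans (Category.comp_id _).symm))
        · have : Mono ((step α I 0).dd ≫ biprod.snd) := by
            change Mono (biprod.lift (α ≫ ι₀ I) (Injective.ι G) ≫ biprod.snd)
            rw [biprod.lift_snd]; infer_instance
          exact mono_of_mono _ biprod.snd
      all_goals rfl
    · rename_i n
      rw [quasiIsoAt_iff_exactAt]
      · rw [HomologicalComplex.exactAt_iff' _ n (n + 1) (n + 1 + 1) (by simp) (by simp)]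
        refine ShortComplex.exact_of_iso ?_ (exact_dd α I (n + 1))
        exact ShortComplex.isoMk (Iso.refl _) (Iso.refl _) (Iso.refl _)
          ((Category.id_comp _).trans ((J_d α I n).trans (Category.comp_id _).symm))
          ((Category.id_comp _).trans ((J_d α I (n + 1)).trans (Category.comp_id _).symm))
      · apply CochainComplex.exactAt_succ_single_obj⟩

def β : J α I ⟶ I.cocomplex where
  f p := (biprod.fst : X α I p ⟶ I.cocomplex.X p)
  comm' := by
    rintro i j rfl
    rw [J_d α I i]
    change (biprod.fst : X α I i ⟶ _) ≫ I.cocomplex.d i (i + 1) =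
      (cokernel.π (step α I i).dd ≫ biprod.lift (cokernel.desc (step α I i).dd
        (biprod.fst ≫ I.cocomplex.d i (i + 1)) (step α I i).w) (Injective.ι (cokernel (step α I i).dd))) ≫ biprod.fst
    rw [Category.assoc, biprod.lift_fst, cokernel.π_desc]

theorem exists_res : ∃ (J : InjectiveResolution G) (β : J.cocomplex ⟶ I.cocomplex),
    J.ι ≫ β = (CochainComplex.single₀ C).map α ≫ I.ι ∧
    ∀ p : ℕ, ∃ (K : C) (e : J.cocomplex.X p ≅ I.cocomplex.X p ⊞ K), β.f p = e.hom ≫ biprod.fst := by
  refine ⟨res α I, β α I, ?_, fun p => ⟨(step α I p).K, Iso.refl _, (Category.id_comp _).symm⟩⟩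
  ext
  simp only [HomologicalComplex.comp_f]
  refine (congrArg (· ≫ (β α I).f 0) (augm_f α I)).trans ?_
  change biprod.lift (α ≫ ι₀ I) (Injective.ι G) ≫ biprod.fst = _
  rw [biprod.lift_fst, CochainComplex.single₀_map_f_zero]
  rfl

end

end Groth.Agent.H77.ResOver
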