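/-
Retracts of dualisable objects.
-/
import Mathlib.CategoryTheory.Monoidal.Rigid.Basic
import Mathlib.Tactic.CategoryTheory.Monoidal.Basic

set_option autoImplicit false

open CategoryTheory MonoidalCategory

namespace Groth.Agent.H77.RetractDual

universe v u

variable {A : Type u} [Category.{v} A] [MonoidalCategory A] {X X₁ Y₁ : A} [HasRightDual X]

/-- The retract is dualisable when the mate idempotent splits. -/
def pairing (i : X₁ ⟶ X) (p : X ⟶ X₁) (hip : i ≫ p = 𝟙 X₁) (j : Y₁ ⟶ Xᘁ) (q : Xᘁ ⟶ Y₁)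
    (hjq : j ≫ q = 𝟙 Y₁) (hqj : q ≫ j = (p ≫ i)ᘁ) : ExactPairing X₁ Y₁ where
  coevaluation' := η_ X Xᘁ ≫ (p ⊗ₘ q)
  evaluation' := (j ⊗ₘ i) ≫ ε_ X Xᘁ
  evaluation_coevaluation' := by
    have he : (p ≫ i)ᘁ ▷ X ≫ ε_ X Xᘁ = Xᘁ ◁ (p ≫ i) ≫ ε_ X Xᘁ := rightAdjointMate_comp_evaluation _
    have key : q ▷ X₁ ≫ (j ⊗ₘ i) ≫ ε_ X Xᘁ = Xᘁ ◁ i ≫ ε_ X Xᘁ := by
      rw [tensorHom_def, Category.assoc, ← comp_whiskerRight_assoc, hqj, ← whisker_exchange_assoc, he,
        ← whiskerLeft_comp_assoc, reassoc_of% hip]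
    rw [comp_whiskerRight, Category.assoc, tensorHom_def' p q, comp_whiskerRight, Category.assoc,
      associator_naturality_left_assoc, ← whisker_exchange, associator_naturality_middle_assoc,
      ← whiskerLeft_comp_assoc, key, whiskerLeft_comp, Category.assoc,
      ← associator_naturality_right_assoc, ← whisker_exchange_assoc,
      ExactPairing.evaluation_coevaluation_assoc, id_whiskerLeft, whiskerRight_id]
    simp [reassoc_of% hip]
  coevaluation_evaluation' := by
    have hc : η_ X Xᘁ ≫ X ◁ (p ≫ i)ᘁ = η_ X Xᘁ ≫ (p ≫ i) ▷ Xᘁ := coevaluation_comp_rightAdjointMate _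
    have key : η_ X Xᘁ ≫ (p ⊗ₘ q) ≫ i ▷ Y₁ = η_ X Xᘁ ≫ X ◁ q := by
      rw [tensorHom_def', Category.assoc, ← comp_whiskerRight, whisker_exchange, ← Category.assoc,
        ← hc, Category.assoc, ← whiskerLeft_comp, ← hqj, Category.assoc, hjq, Category.comp_id]
    rw [whiskerLeft_comp, Category.assoc, comp_whiskerRight, tensorHom_def' j i, comp_whiskerRight,
      Category.assoc, ← associator_inv_naturality_middle_assoc, ← whiskerLeft_comp_assoc,
      ← whiskerLeft_comp_assoc, Category.assoc, key, whiskerLeft_comp, Category.assoc,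
      ← associator_inv_naturality_left_assoc, whisker_exchange_assoc, whisker_exchange_assoc,
      associator_inv_naturality_right_assoc, whisker_exchange,
      ExactPairing.coevaluation_evaluation_assoc, id_whiskerLeft, whiskerRight_id]
    simp [reassoc_of% hjq]

end Groth.Agent.H77.RetractDual
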