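/-
Skeleta of simplicial objects in abelian categories.
-/
import Groth.Agent.S6810
import Mathlib.AlgebraicTopology.DoldKan.Degeneracies
import Mathlib.AlgebraicTopology.DoldKan.Normalized
import Mathlib.AlgebraicTopology.MooreComplex
import Mathlib.AlgebraicTopology.SimplicialObject.Basic
import Mathlib.CategoryTheory.Abelian.Subobject

set_option autoImplicit false

open CategoryTheory CategoryTheory.Limits Opposite Simplicial

namespace Groth.Agent.H77.Skel

universe v u

variable {A : Type u} [Category.{v} A] [Abelian A] (X : SimplicialObject A)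

open AlgebraicTopology AlgebraicTopology.DoldKan

lemma objX_arrow_PInfty (n : ℕ) :
    (NormalizedMooreComplex.objX X n).arrow ≫ PInfty.f n = (NormalizedMooreComplex.objX X n).arrow :=
  HomologicalComplex.congr_hom (inclusionOfMooreComplexMap_comp_PInfty X) n

lemma map_PInfty {m i : ℕ} (him : i < m) (θ : SimplexCategory.mk m ⟶ SimplexCategory.mk i) :
    X.map θ.op ≫ PInfty.f m = 0 :=
  degeneracy_comp_PInfty X m θ fun h => by
    have := SimplexCategory.len_le_of_mono θ
    simp at this
    omega

/-- A subobject killed by `PInfty` meets the normalized part trivially. -/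
lemma inf_objX {m : ℕ} (S : Subobject (X.obj (op ⦋m⦌))) (h : S.arrow ≫ PInfty.f m = 0) :
    S ⊓ NormalizedMooreComplex.objX X m = ⊥ := by
  let N := NormalizedMooreComplex.objX X m
  have h1 : (S ⊓ N).arrow ≫ PInfty.f m = 0 := by
    rw [← Subobject.ofLE_arrow (inf_le_left : S ⊓ N ≤ S), Category.assoc, h, comp_zero]
  have h2 : (S ⊓ N).arrow ≫ PInfty.f m = (S ⊓ N).arrow := by
    rw [← Subobject.ofLE_arrow (inf_le_right : S ⊓ N ≤ N), Category.assoc, objX_arrow_PInfty]
  rw [← Subobject.mk_arrow (S ⊓ N), Subobject.mk_eq_bot_iff_zero]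
  exact h2.symm.trans h1

lemma le_kernel_of_lub {m n : ℕ} (hnm : n < m) (S : Subobject (X.obj (op ⦋m⦌)))
    (hS : IsLUB (Set.range (fun φ : Σ i : Fin (n + 1), (SimplexCategory.mk m ⟶ SimplexCategory.mk i) =>
      imageSubobject (X.map φ.2.op))) S) : S.arrow ≫ PInfty.f m = 0 := by
  have h : S ≤ kernelSubobject (PInfty.f m : X.obj (op ⦋m⦌) ⟶ X.obj (op ⦋m⦌)) := hS.2 (by
    rintro _ ⟨⟨i, θ⟩, rfl⟩
    exact imageSubobject_le _ (factorThruKernelSubobject _ _ (map_PInfty X (by omega) θ))
      (factorThruKernelSubobject_comp_arrow _ _ _))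
  rw [← Subobject.ofLE_arrow h, Category.assoc, kernelSubobject_arrow_comp, comp_zero]

variable (n : ℕ) [∀ F : (SimplexCategory.Truncated n)ᵒᵖ ⥤ A, (SimplexCategory.Truncated.inclusion n).op.HasLeftKanExtension F]

/-- The object of the truncated simplex category. -/
abbrev tr (i : ℕ) (hi : i ≤ n) : (SimplexCategory.Truncated n)ᵒᵖ := op ⟨⦋i⦌, hi⟩

noncomputable def pointwise (U : SimplicialObject.Truncated A n) :
    (Functor.LeftExtension.mk ((SimplicialObject.Truncated.sk n).obj U)
      ((SimplexCategory.Truncated.inclusion n).op.lanUnit.app U)).IsPointwiseLeftKanExtension :=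
  have : (SimplexCategory.Truncated.inclusion n).op.HasPointwiseLeftKanExtension U :=
    Groth.Agent.S6810.result n U
  have : ((SimplicialObject.Truncated.sk n).obj U).IsLeftKanExtension
      ((SimplexCategory.Truncated.inclusion n).op.lanUnit.app U) :=
    inferInstanceAs (((SimplexCategory.Truncated.inclusion n).op.lan.obj U).IsLeftKanExtension _)
  Functor.isPointwiseLeftKanExtensionOfIsLeftKanExtension (F := U) ((SimplicialObject.Truncated.sk n).obj U)
    ((SimplexCategory.Truncated.inclusion n).op.lanUnit.app U)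

lemma sk_ext (U : SimplicialObject.Truncated A n) {m : ℕ} {Z : A}
    (g g' : ((SimplicialObject.Truncated.sk n).obj U).obj (op ⦋m⦌) ⟶ Z)
    (h : ∀ (i : ℕ) (hi : i ≤ n) (θ : SimplexCategory.mk m ⟶ SimplexCategory.mk i),
      ((SimplexCategory.Truncated.inclusion n).op.lanUnit.app U).app (tr n i hi) ≫
          ((SimplicialObject.Truncated.sk n).obj U).map θ.op ≫ g =
        ((SimplexCategory.Truncated.inclusion n).op.lanUnit.app U).app (tr n i hi) ≫
          ((SimplicialObject.Truncated.sk n).obj U).map θ.op ≫ g') : g = g' := by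
  refine (pointwise n U (op ⦋m⦌)).hom_ext fun j => ?_
  exact (Category.assoc _ _ _).trans ((h j.left.unop.obj.len j.left.unop.property j.hom.unop).trans (Category.assoc _ _ _).symm)

theorem objX_sk_eq_bot (U : SimplicialObject.Truncated A n) {m : ℕ} (hm : n < m) :
    NormalizedMooreComplex.objX ((SimplicialObject.Truncated.sk n).obj U) m = ⊥ := by
  let V := (SimplicialObject.Truncated.sk n).obj U
  have h : (PInfty.f m : V.obj (op ⦋m⦌) ⟶ V.obj (op ⦋m⦌)) = 0 := sk_ext n U _ _ fun i hi θ => by
    rw [map_PInfty V (by omega) θ, comp_zero, comp_zero, comp_zero]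
  have := inf_objX V (NormalizedMooreComplex.objX V m) (by rw [h, comp_zero])
  rwa [inf_idem] at this

noncomputable def cn : (SimplicialObject.sk n).obj X ⟶ X := (SimplicialObject.skAdj n).counit.app X

lemma unit_cn (i : ℕ) (hi : i ≤ n) :
    ((SimplexCategory.Truncated.inclusion n).op.lanUnit.app ((SimplicialObject.truncation n).obj X)).app (tr n i hi) ≫
      (cn X n).app (op ⦋i⦌) = 𝟙 (((SimplicialObject.truncation n).obj X).obj (tr n i hi)) :=
  (congr_app ((SimplexCategory.Truncated.inclusion n).op.lanUnit_app_whiskerLeft_lanAdjunction_counit_app X) (tr n i hi))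

lemma mono_cn_le (i : ℕ) (hi : i ≤ n) : IsIso ((cn X n).app (op ⦋i⦌)) := by
  have hα : IsIso (((SimplexCategory.Truncated.inclusion n).op.lanUnit.app
      ((SimplicialObject.truncation n).obj X)).app (tr n i hi)) :=
    (pointwise n ((SimplicialObject.truncation n).obj X)
      ((SimplexCategory.Truncated.inclusion n).op.obj (tr n i hi))).isIso_hom_app
  exact @IsIso.of_isIso_fac_left _ _ _ _ _ _ _ _ hα (IsIso.id _) (unit_cn X n i hi) --(hh := IsIso.id _) (unit_cn X n i hi)

theorem mono_cn : ∀ m : ℕ, Mono ((cn X n).app (op ⦋m⦌)) := by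
  intro m
  induction m with
  | zero =>
    have := mono_cn_le X n 0 (Nat.zero_le n)
    infer_instance
  | succ m ih =>
    by_cases hm : m + 1 ≤ n
    · have := mono_cn_le X n (m + 1) hm
      infer_instance
    · refine Preadditive.mono_of_cancel_zero _ fun {T} z hz => ?_
      let V := (SimplicialObject.sk n).obj X
      have hδ : ∀ k : Fin (m + 2), z ≫ V.δ k = 0 := fun k => by
        rw [← cancel_mono ((cn X n).app (op ⦋m⦌)), Category.assoc, zero_comp]
        erw [(cn X n).naturality (SimplexCategory.δ k).op]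
        rw [reassoc_of% hz, zero_comp]
      have hN := objX_sk_eq_bot n ((SimplicialObject.truncation n).obj X) (show n < m + 1 by omega)
      have hf : (NormalizedMooreComplex.objX V (m + 1)).Factors z := by
        rw [NormalizedMooreComplex.objX_add_one]
        exact (Subobject.finset_inf_factors _).2 fun k _ => kernelSubobject_factors _ _ (hδ k.succ)
      exact (Subobject.bot_factors_iff_zero _).1 (hN ▸ hf)

theorem image_cn (m : ℕ) (S : Subobject (X.obj (op ⦋m⦌)))
    (hS : IsLUB (Set.range (fun φ : Σ i : Fin (n + 1), (SimplexCategory.mk m ⟶ SimplexCategory.mk i) =>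
      imageSubobject (X.map φ.2.op))) S) : imageSubobject ((cn X n).app (op ⦋m⦌)) = S := by
  let α := (SimplexCategory.Truncated.inclusion n).op.lanUnit.app ((SimplicialObject.truncation n).obj X)
  let V := (SimplicialObject.sk n).obj X
  have hcomp : ∀ (i : ℕ) (hi : i ≤ n) (θ : SimplexCategory.mk m ⟶ SimplexCategory.mk i),
      α.app (tr n i hi) ≫ V.map θ.op ≫ (cn X n).app (op ⦋m⦌) = X.map θ.op := by
    intro i hi θ
    erw [(cn X n).naturality θ.op]
    erw [← Category.assoc, unit_cn X n i hi, Category.id_comp]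
  apply le_antisymm
  · have h0 : (cn X n).app (op ⦋m⦌) ≫ cokernel.π S.arrow = 0 := sk_ext n _ _ _ fun i hi θ => by
      rw [comp_zero, comp_zero]
      have hle : imageSubobject (X.map θ.op) ≤ S := hS.1 ⟨⟨⟨i, Nat.lt_succ_of_le hi⟩, θ⟩, rfl⟩
      calc _ = (α.app (tr n i hi) ≫ V.map θ.op ≫ (cn X n).app (op ⦋m⦌)) ≫ cokernel.π S.arrow := by
            simp only [Category.assoc]; rfl
        _ = 0 := by
            have h1 : X.map θ.op ≫ cokernel.π S.arrow = 0 := by
              rw [← imageSubobject_arrow_comp (X.map θ.op), ← Subobject.ofLE_arrow hle, Category.assoc,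
                Category.assoc, cokernel.condition, comp_zero, comp_zero]
            exact (congrArg (· ≫ cokernel.π S.arrow) (hcomp i hi θ)).trans h1
    exact imageSubobject_le _ (Abelian.monoLift S.arrow _ h0) (Abelian.monoLift_comp _ _ _)
  · refine hS.2 ?_
    rintro _ ⟨⟨i, θ⟩, rfl⟩
    refine imageSubobject_le _ ((α.app (tr n i (Nat.le_of_lt_succ i.2)) ≫ V.map θ.op) ≫ factorThruImageSubobject _) ?_
    exact (Category.assoc _ _ _).trans ((congrArg _ (imageSubobject_arrow_comp _)).trans
      ((Category.assoc _ _ _).trans (hcomp i _ θ)))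

end Groth.Agent.H77.Skel
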