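/-
Alternating sums of traces along a spectral sequence.
-/
import Groth.Agent.Lib.SSAbs.Trace
import Mathlib.Analysis.Normed.Group.Tannery
import Mathlib.Topology.Algebra.InfiniteSum.Ring
import Mathlib.Algebra.Order.Antidiag.Prod
import Mathlib.Analysis.Normed.Ring.InfiniteSum

set_option autoImplicit false

open CategoryTheory CategoryTheory.Limits
open Groth.Agent.Lib.SSAbs.Trace

namespace Groth.Agent.H77.TraceSum

universe u

noncomputable section

section complex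

variable {c : ComplexShape (ℤ × ℤ)} (L : HomologicalComplex (ModuleCat.{u} (Polynomial ℂ)) c)

/-- The boundaries at `j`. -/
abbrev Bd (j : ℤ × ℤ) : ModuleCat.{u} (Polynomial ℂ) := kernel (L.homologyπ j)

lemma seq_cycles (j : ℤ × ℤ) :
    (ShortComplex.mk (kernel.ι (L.homologyπ j)) (L.homologyπ j) (kernel.condition _)).ShortExact :=
  ShortComplex.ShortExact.mk' (ShortComplex.exact_of_f_is_kernel _ (kernelIsKernel _)) inferInstance inferInstance

lemma seq_X {i j : ℤ × ℤ} (hij : c.Rel i j) :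
    (ShortComplex.mk (L.iCycles i) (kernel.lift (L.homologyπ j) (L.toCycles i j) (L.toCycles_comp_homologyπ i j))
      (by
        rw [← cancel_mono (kernel.ι _), Category.assoc, kernel.lift_ι, ← cancel_mono (L.iCycles j)]
        simp)).ShortExact := by
  refine ShortComplex.ShortExact.mk' ?_ inferInstance ?_
  · let φ : ShortComplex.mk (L.iCycles i) (kernel.lift (L.homologyπ j) (L.toCycles i j)
        (L.toCycles_comp_homologyπ i j)) (by
          rw [← cancel_mono (kernel.ι _), Category.assoc, kernel.lift_ι, ← cancel_mono (L.iCycles j)]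
          simp) ⟶ ShortComplex.mk (L.iCycles i) (L.d i j) (L.iCycles_d _ _) :=
      { τ₁ := 𝟙 _, τ₂ := 𝟙 _, τ₃ := kernel.ι _ ≫ L.iCycles j }
    have : Epi φ.τ₁ := by dsimp [φ]; infer_instance
    have : IsIso φ.τ₂ := by dsimp [φ]; infer_instance
    have : Mono φ.τ₃ := by dsimp [φ]; infer_instance
    exact (ShortComplex.exact_iff_of_epi_of_isIso_of_mono φ).2
      (ShortComplex.exact_of_f_is_kernel _ (L.cyclesIsKernel i j (c.next_eq' hij)))
  · exact (ShortComplex.exact_iff_epi_kernel_lift _).1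
      (ShortComplex.exact_of_g_is_cokernel
        (ShortComplex.mk (L.toCycles i j) (L.homologyπ j) (L.toCycles_comp_homologyπ i j))
        (L.homologyIsCokernel i j (c.prev_eq' hij)))

theorem tr_X {j k : ℤ × ℤ} (hjk : c.Rel j k) {ρ : ℝ} {m : ℕ} (g0 : Good (L.X j) ρ m) :
    tr (L.X j) = tr (Bd L j) + tr (L.homology j) + tr (Bd L k) := by
  obtain ⟨gZ, gB⟩ := (ses (seq_X L hjk)).2 _ _ g0
  obtain ⟨gB', gH⟩ := (ses (seq_cycles L j)).2 _ _ gZ
  have h1 := ((ses (seq_X L hjk)).1 gZ.1 gB.1).2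
  have h2 := ((ses (seq_cycles L j)).1 gB'.1 gH.1).2
  dsimp only at h1 h2
  rw [h1, h2]

theorem good_homology {j k : ℤ × ℤ} (hjk : c.Rel j k) {ρ : ℝ} {m : ℕ} (h : Good (L.X j) ρ m) :
    Good (Bd L j) ρ m ∧ Good (L.homology j) ρ m :=
  (ses (seq_cycles L j)).2 _ _ ((ses (seq_X L hjk)).2 _ _ h).1

end complex

/-- The sign. -/
abbrev sgn (pq : ℤ × ℤ) : ℂ := (-1 : ℂ) ^ (pq.1 + pq.2)

lemma norm_sgn (pq : ℤ × ℤ) : ‖sgn pq‖ = 1 := by rw [sgn, norm_zpow, norm_neg, norm_one, one_zpow]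

lemma summable_sgn {T : ℤ × ℤ → ℂ} {B : ℤ × ℤ → ℝ} (hB : Summable B) (h : ∀ pq, ‖T pq‖ ≤ B pq) :
    Summable fun pq => sgn pq * T pq :=
  Summable.of_norm_bounded hB fun pq => by rw [norm_mul, norm_sgn, one_mul]; exact h pq

theorem telescope {B : ℤ × ℤ → ℝ} (hB : Summable B) (X H Z : ℤ × ℤ → ℂ) (r : ℤ) (hZ' : ∀ pq, ‖Z pq‖ ≤ B pq)
    (hH' : ∀ pq, ‖H pq‖ ≤ B pq) (heq : ∀ pq, X pq = Z pq + H pq + Z (pq + (r, 1 - r))) :
    ∑' pq, sgn pq * X pq = ∑' pq, sgn pq * H pq := by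
  have hH := summable_sgn hB hH'
  have hZ := summable_sgn hB hZ'
  let v : ℤ × ℤ := (r, 1 - r)
  have hsh : (fun pq => sgn pq * Z (pq + v)) = fun pq => -(sgn (pq + v) * Z (pq + v)) := by
    funext pq
    have : sgn (pq + v) = -sgn pq := by
      simp only [sgn, v, Prod.fst_add, Prod.snd_add]
      rw [show pq.1 + r + (pq.2 + (1 - r)) = pq.1 + pq.2 + 1 by ring, zpow_add_one₀ (by norm_num), mul_neg_one]
    rw [this, neg_mul, neg_neg]
  have hS : Summable fun pq => sgn (pq + v) * Z (pq + v) :=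
    (Equiv.addRight v).summable_iff (f := fun pq => sgn pq * Z pq).2 hZ
  have heq' : ∀ pq, sgn pq * X pq = sgn pq * Z pq + sgn pq * H pq + sgn pq * Z (pq + v) := fun pq => by
    rw [heq, mul_add, mul_add]
  rw [tsum_congr heq', (hZ.add hH).tsum_add (by rw [hsh]; exact hS.neg), hZ.tsum_add hH, hsh, tsum_neg,
    show ∑' pq, sgn (pq + v) * Z (pq + v) = ∑' pq, sgn pq * Z pq from
      (Equiv.addRight v).tsum_eq (fun pq => sgn pq * Z pq)]
  ring

theorem euler_page {r : ℤ} (L : HomologicalComplex (ModuleCat.{u} (Polynomial ℂ))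
      (ComplexShape.up' ((r, 1 - r) : ℤ × ℤ)))
    {ρ : ℤ × ℤ → ℝ} {m : ℤ × ℤ → ℕ} (hρ : ∀ pq, 0 ≤ ρ pq) (hg : ∀ pq, Good (L.X pq) (ρ pq) (m pq))
    (hB : Summable fun pq => (m pq : ℝ) * ρ pq) :
    ∑' pq, sgn pq * tr (L.X pq) = ∑' pq, sgn pq * tr (L.homology pq) := by
  have hrel : ∀ pq : ℤ × ℤ, (ComplexShape.up' ((r, 1 - r) : ℤ × ℤ)).Rel pq (pq + (r, 1 - r)) := fun pq => rfl
  have hn : ∀ pq, ‖tr (Bd L pq)‖ ≤ (m pq : ℝ) * ρ pq ∧ ‖tr (L.homology pq)‖ ≤ (m pq : ℝ) * ρ pq := fun pq =>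
    ⟨(good_homology L (hrel pq) (hg pq)).1.norm_tr (hρ pq), (good_homology L (hrel pq) (hg pq)).2.norm_tr (hρ pq)⟩
  have heq : ∀ pq, tr (L.X pq) = tr (Bd L pq) + tr (L.homology pq) + tr (Bd L (pq + (r, 1 - r))) := fun pq =>
    tr_X L (hrel pq) (hg pq)
  exact telescope hB (fun pq => tr (L.X pq)) (fun pq => tr (L.homology pq)) (fun pq => tr (Bd L pq)) r
    (fun pq => (hn pq).1) (fun pq => (hn pq).2) heq

section bounds

variable (N : ℕ) (a c : ℕ → ℝ) (b d : ℕ → ℕ)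

abbrev rho (pq : ℤ × ℤ) : ℝ := a pq.2.toNat * c pq.1.toNat

abbrev dimB (pq : ℤ × ℤ) : ℕ :=
  if 0 ≤ pq.1 ∧ 0 ≤ pq.2 ∧ pq.2 ≤ N then b pq.2.toNat * d pq.1.toNat else 0

def ι : ℕ × ℕ → ℤ × ℤ := fun x => ((x.1 : ℤ), (x.2 : ℤ))

lemma ι_inj : Function.Injective ι := fun x y h => by
  simp only [ι, Prod.ext_iff] at h ⊢
  exact ⟨by exact_mod_cast h.1, by exact_mod_cast h.2⟩

lemma notMem_range {pq : ℤ × ℤ} (h : pq ∉ Set.range ι) : pq.1 < 0 ∨ pq.2 < 0 := by
  by_contra hn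
  push Not at hn
  exact h ⟨(pq.1.toNat, pq.2.toNat), Prod.ext (Int.toNat_of_nonneg hn.1) (Int.toNat_of_nonneg hn.2)⟩

lemma rho_nonneg (ha : ∀ q, 0 ≤ a q) (hc : ∀ p, 0 ≤ c p) (pq : ℤ × ℤ) : 0 ≤ rho a c pq :=
  mul_nonneg (ha _) (hc _)

lemma summable_bound (ha : ∀ q, 0 ≤ a q) (hc : ∀ p, 0 ≤ c p)
    (hsum : Summable fun p : ℕ => c p * (d p : ℝ)) :
    Summable fun pq => (dimB N b d pq : ℝ) * rho a c pq := by
  refine (ι_inj.summable_iff fun pq h => ?_).1 ?_
  · have hn : ¬(0 ≤ pq.1 ∧ 0 ≤ pq.2 ∧ pq.2 ≤ (N : ℤ)) := by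
      rcases notMem_range h with h | h <;> omega
    simp [dimB, hn]
  · have h2 : Summable fun q : ℕ => if q ≤ N then a q * (b q : ℝ) else 0 :=
      summable_of_ne_finset_zero (s := Finset.range (N + 1)) fun q hq => by
        simp only [Finset.mem_range] at hq
        rw [if_neg (by omega)]
    have h3 := hsum.mul_of_nonneg h2 (fun p => mul_nonneg (hc p) (Nat.cast_nonneg _))
      (fun q => by dsimp; split <;> [exact mul_nonneg (ha q) (Nat.cast_nonneg _); rfl])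
    refine h3.congr fun x => ?_
    simp only [Function.comp_apply, ι, rho, dimB, Int.toNat_natCast, Int.natCast_nonneg, true_and, Nat.cast_le]
    split
    · push_cast; ring
    · simp

end bounds

section pages

variable {N : ℕ} {a c : ℕ → ℝ} {b d : ℕ → ℕ} (E : E₂CohomologicalSpectralSequence (ModuleCat.{u} (Polynomial ℂ)))

def GoodPage (N : ℕ) (a c : ℕ → ℝ) (b d : ℕ → ℕ) (r : ℤ) (hr : 2 ≤ r) : Prop :=
  ∀ pq, Good ((E.page r hr).X pq) (rho a c pq) (dimB N b d pq)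

lemma goodPage_iff {r : ℤ} {hr : 2 ≤ r} : GoodPage E N a c b d r hr ↔
    ((∀ pq : ℤ × ℤ, pq.1 < 0 ∨ pq.2 < 0 → IsZero ((E.page r hr).X pq)) ∧
      (∀ pq : ℤ × ℤ, Module.Finite ℂ (Res ((E.page r hr).X pq))) ∧
      (∀ p q : ℕ, N < q → IsZero ((E.page r hr).X ((p : ℤ), (q : ℤ)))) ∧
      (∀ (p q : ℕ) (μ : ℂ), Module.End.HasEigenvalue (endo ((E.page r hr).X ((p : ℤ), (q : ℤ)))) μ →
        ‖μ‖ ≤ a q * c p) ∧
      (∀ p q : ℕ, Module.finrank ℂ (Res ((E.page r hr).X ((p : ℤ), (q : ℤ)))) ≤ b q * d p)) := by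
  have hz : ∀ pq, Module.Finite ℂ (Res ((E.page r hr).X pq)) → Module.finrank ℂ (Res ((E.page r hr).X pq)) = 0 →
      IsZero ((E.page r hr).X pq) := fun pq hf h0 => by
    have : Subsingleton (Res ((E.page r hr).X pq)) := Module.finrank_zero_iff.1 h0
    have : Subsingleton ((E.page r hr).X pq) := this
    exact ModuleCat.isZero_of_subsingleton _
  constructor
  · intro h
    refine ⟨fun pq hpq => hz pq (h pq).1 ?_, fun pq => (h pq).1, fun p q hq => hz _ (h _).1 ?_, fun p q μ hμ => ?_, fun p q => ?_⟩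
    · have := (h pq).2.2
      rw [dimB, if_neg (by omega)] at this
      omega
    · have := (h ((p : ℤ), (q : ℤ))).2.2
      rw [dimB, if_neg (by simp; omega)] at this
      omega
    · simpa [rho] using (h _).2.1 μ hμ
    · refine (h ((p : ℤ), (q : ℤ))).2.2.trans ?_
      simp only [dimB, Int.toNat_natCast]
      split <;> omega
  · rintro ⟨hquad, hfd, hN, hev, hdim⟩ pq
    by_cases hp : 0 ≤ pq.1 ∧ 0 ≤ pq.2 ∧ pq.2 ≤ N
    · obtain ⟨p, q⟩ := pq
      obtain ⟨h1, h2, h3⟩ := hp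
      lift p to ℕ using h1
      lift q to ℕ using h2
      refine ⟨hfd _, fun μ hμ => by simpa [rho] using hev p q μ hμ, ?_⟩
      rw [dimB, if_pos ⟨Int.natCast_nonneg _, Int.natCast_nonneg _, h3⟩]
      simpa using hdim p q
    · have hzero : IsZero ((E.page r hr).X pq) := by
        by_cases h : pq.1 < 0 ∨ pq.2 < 0
        · exact hquad pq h
        · obtain ⟨p, q⟩ := pq
          simp only [not_or, not_lt] at h
          obtain ⟨h1, h2⟩ := h
          lift p to ℕ using h1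
          lift q to ℕ using h2
          simp only [not_and, Int.natCast_nonneg, true_implies] at hp
          exact hN p q (by omega)
      have : Subsingleton (Res ((E.page r hr).X pq)) :=
        (ModuleCat.subsingleton_of_isZero hzero : Subsingleton ((E.page r hr).X pq))
      refine ⟨hfd _, fun μ hμ => ?_, ?_⟩
      · obtain ⟨x, hx⟩ := hμ.exists_hasEigenvector
        exact absurd (Subsingleton.elim x 0) hx.2
      · rw [Module.finrank_zero_of_subsingleton]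
        exact Nat.zero_le _

lemma GoodPage.succ {r : ℤ} {hr : 2 ≤ r} (h : GoodPage E N a c b d r hr) :
    GoodPage E N a c b d (r + 1) (Int.le_add_one hr) := fun pq =>
  (good_homology (E.page r hr) (Groth.Agent.Lib.SSAbs.Basic.rel_next r pq) (h pq)).2.of_iso
    (E.iso r (r + 1) pq rfl hr)

lemma tsum_succ (ha : ∀ q, 0 ≤ a q) (hc : ∀ p, 0 ≤ c p) (hsum : Summable fun p : ℕ => c p * (d p : ℝ))
    {r : ℤ} {hr : 2 ≤ r} (h : GoodPage E N a c b d r hr) :
    ∑' pq, sgn pq * tr ((E.page (r + 1) (Int.le_add_one hr)).X pq) = ∑' pq, sgn pq * tr ((E.page r hr).X pq) := by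
  rw [euler_page (E.page r hr) (rho_nonneg a c ha hc) h (summable_bound N a c b d ha hc hsum)]
  exact tsum_congr fun pq => by rw [tr_iso (E.iso r (r + 1) pq rfl hr)]

lemma tsum_nat (T : ℤ × ℤ → ℂ) (hT : ∀ pq : ℤ × ℤ, pq.1 < 0 ∨ pq.2 < 0 → T pq = 0) :
    ∑' pq, sgn pq * T pq = ∑' x : ℕ × ℕ, (-1 : ℂ) ^ (x.1 + x.2) * T ((x.1 : ℤ), (x.2 : ℤ)) := by
  rw [← ι_inj.tsum_eq (f := fun pq => sgn pq * T pq) (Function.support_subset_iff'.2 fun pq h => by
    rw [hT pq (notMem_range h), mul_zero])]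
  refine tsum_congr fun x => ?_
  simp only [ι, sgn, ← Nat.cast_add, zpow_natCast]

end pages

end

end Groth.Agent.H77.TraceSum
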