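/-
Traces on an abutment.
-/
import Groth.Agent.H77.TraceSum
import Mathlib.Data.Finset.NatAntidiagonal
import Mathlib.Algebra.BigOperators.NatAntidiagonal

set_option autoImplicit false

open CategoryTheory CategoryTheory.Limits
open Groth.Agent.Lib.SSAbs.Trace Groth.Agent.H77.TraceSum
open Filter Topology

namespace Groth.Agent.H77.TraceAbut

universe u

noncomputable section

variable {E : E₂CohomologicalSpectralSequence (ModuleCat.{u} (Polynomial ℂ))}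
  {H : ℤ → ModuleCat.{u} (Polynomial ℂ)}
  {N : ℕ} {a c : ℕ → ℝ} {b d : ℕ → ℕ}

/-- The graded piece at a position. -/
abbrev grAt (ab : SpSeq.Abutment E H) (pq : ℤ × ℤ) : ModuleCat.{u} (Polynomial ℂ) :=
  SpSeq.grPiece (ab.fil (pq.1 + pq.2)) (ab.anti (pq.1 + pq.2)) pq.1

lemma goodPage_of_le (h : GoodPage E N a c b d 2 le_rfl) : ∀ k (hk : (2 : ℤ) ≤ k), GoodPage E N a c b d k hk :=
  Groth.Agent.Lib.SSAbs.Basic.induction_from (motive := fun k hk => GoodPage E N a c b d k hk) le_rfl h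
    fun _ _ _ ih => GoodPage.succ E ih

lemma tsum_page (ha : ∀ q, 0 ≤ a q) (hc : ∀ p, 0 ≤ c p) (hsum : Summable fun p : ℕ => c p * (d p : ℝ))
    (h : GoodPage E N a c b d 2 le_rfl) : ∀ k (hk : (2 : ℤ) ≤ k),
      ∑' pq, sgn pq * tr ((E.page k hk).X pq) = ∑' pq, sgn pq * tr ((E.page 2 le_rfl).X pq) :=
  Groth.Agent.Lib.SSAbs.Basic.induction_from
    (motive := fun k hk => ∑' pq, sgn pq * tr ((E.page k hk).X pq) = ∑' pq, sgn pq * tr ((E.page 2 le_rfl).X pq))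
    le_rfl rfl fun k hk _ ih => (tsum_succ E ha hc hsum (goodPage_of_le h k hk)).trans ih

lemma good_gr (ab : SpSeq.Abutment E H) (h : GoodPage E N a c b d 2 le_rfl) (pq : ℤ × ℤ) :
    Good (grAt ab pq) (rho a c pq) (dimB N b d pq) :=
  (goodPage_of_le h (ab.rk pq) (ab.stat pq).1 pq).of_iso (ab.β pq)

lemma page_eq_gr (ab : SpSeq.Abutment E H) (pq : ℤ × ℤ) (k : ℤ) (hk : ab.rk pq ≤ k) :
    tr ((E.page k ((ab.stat pq).1.trans hk)).X pq) = tr (grAt ab pq) :=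
  (tr_iso (Groth.Agent.Lib.SSAbs.Basic.nonempty_gr_of_le ab pq _ rfl k hk).some).symm

theorem tsum_gr (ab : SpSeq.Abutment E H) (ha : ∀ q, 0 ≤ a q) (hc : ∀ p, 0 ≤ c p)
    (hsum : Summable fun p : ℕ => c p * (d p : ℝ)) (h : GoodPage E N a c b d 2 le_rfl) :
    ∑' pq, sgn pq * tr (grAt ab pq) = ∑' pq, sgn pq * tr ((E.page 2 le_rfl).X pq) := by
  let S : ℕ → ℤ × ℤ → ℂ := fun k pq => sgn pq * tr ((E.page (2 + (k : ℤ)) (le_add_of_nonneg_right (Int.natCast_nonneg k))).X pq)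
  have h1 : Tendsto (fun k => ∑' pq, S k pq) atTop (𝓝 (∑' pq, sgn pq * tr (grAt ab pq))) := by
    refine tendsto_tsum_of_dominated_convergence (summable_bound N a c b d ha hc hsum) (fun pq => ?_)
      (Eventually.of_forall fun k pq => ?_)
    · refine tendsto_atTop_of_eventually_const (i₀ := (ab.rk pq).toNat) fun k hk => ?_
      simp only [S]
      rw [page_eq_gr ab pq (2 + (k : ℤ)) (by omega)]
    · simp only [S]
      rw [norm_mul, norm_sgn, one_mul]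
      exact (goodPage_of_le h _ _ pq).norm_tr (rho_nonneg a c ha hc pq)
  have h2 : Tendsto (fun k => ∑' pq, S k pq) atTop (𝓝 (∑' pq, sgn pq * tr ((E.page 2 le_rfl).X pq))) :=
    tendsto_atTop_of_eventually_const (i₀ := 0) fun k _ => tsum_page ha hc hsum h _ _
  exact tendsto_nhds_unique h1 h2

lemma ses_fil {X : ModuleCat.{u} (Polynomial ℂ)} (F : ℤ → Subobject X) (hF : Antitone F) (p : ℤ) :
    (ShortComplex.mk ((F (p + 1)).ofLE (F p) (hF (Int.le_add_one le_rfl)))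
      (Groth.Agent.Lib.FilCx.Basic.qπ (hF (Int.le_add_one (le_refl p))))
      (Groth.Agent.Lib.FilCx.Basic.ofLE_qπ _)).ShortExact :=
  ShortComplex.ShortExact.mk' (ShortComplex.exact_of_g_is_cokernel _ (cokernelIsCokernel _)) inferInstance
    (Groth.Agent.Lib.FilCx.Basic.epi_qπ _)

lemma isZero_page_two (h : GoodPage E N a c b d 2 le_rfl) {pq : ℤ × ℤ} (hpq : pq.1 < 0 ∨ pq.2 < 0) :
    IsZero ((E.page 2 le_rfl).X pq) := ((goodPage_iff E).1 h).1 pq hpq

theorem tr_abut (ab : SpSeq.Abutment E H) (hfin : ∀ n, ab.IsFinite n) (h : GoodPage E N a c b d 2 le_rfl) (n : ℕ) :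
    tr (H n) = ∑ x ∈ Finset.HasAntidiagonal.antidiagonal n, tr (grAt ab ((x.1 : ℤ), (x.2 : ℤ))) := by
  obtain ⟨⟨lo, hlo⟩, ⟨hi, hhi⟩⟩ := hfin (n : ℤ)
  have hzero : ∀ i, i < 0 ∨ (n : ℤ) < i → IsZero (SpSeq.grPiece (ab.fil n) (ab.anti n) i) := fun i hi' =>
    Groth.Agent.Lib.SSAbs.Basic.isZero_gr ab (i, (n : ℤ) - i) n (by simp) le_rfl
      (isZero_page_two h (by simp; omega))
  have h0 : ab.fil n 0 = ⊤ := Groth.Agent.Lib.SSAbs.Basic.eq_top_of_isZero (ab.anti n) hlo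
    fun i hi' => hzero i (Or.inl hi')
  have hn1 : ab.fil n (n + 1) = ⊥ := Groth.Agent.Lib.SSAbs.Basic.eq_bot_of_isZero (ab.anti n) hhi
    fun i hi' => hzero i (Or.inr (by omega))
  have hgr : ∀ (m : ℤ) (x : ℤ × ℤ), x.1 + x.2 = m →
      tr (grAt ab x) = tr (SpSeq.grPiece (ab.fil m) (ab.anti m) x.1) ∧
      Module.Finite ℂ (Res (SpSeq.grPiece (ab.fil m) (ab.anti m) x.1)) := fun m x hx => by
    subst hx
    exact ⟨rfl, (good_gr ab h x).1⟩
  have key : ∀ k : ℕ, Module.Finite ℂ (Res (ab.fil n ((n : ℤ) + 1 - k) : ModuleCat.{u} (Polynomial ℂ))) ∧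
      tr (ab.fil n ((n : ℤ) + 1 - k) : ModuleCat.{u} (Polynomial ℂ)) =
        ∑ i ∈ Finset.range k, tr (grAt ab ((n : ℤ) - i, (i : ℤ))) := by
    intro k
    induction k with
    | zero =>
      have hz : IsZero (ab.fil n ((n : ℤ) + 1 - (0 : ℕ)) : ModuleCat.{u} (Polynomial ℂ)) := by
        rw [Nat.cast_zero, sub_zero, hn1]; exact (isZero_zero _).of_iso Subobject.botCoeIsoZero
      refine ⟨?_, by rw [Finset.sum_range_zero, tr_eq_zero hz]⟩
      have : Subsingleton (Res (ab.fil n ((n : ℤ) + 1 - (0 : ℕ)) : ModuleCat.{u} (Polynomial ℂ))) :=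
        (ModuleCat.subsingleton_of_isZero hz : Subsingleton (ab.fil n ((n : ℤ) + 1 - (0 : ℕ)) : ModuleCat.{u} (Polynomial ℂ)))
      exact inferInstance
    | succ k ih =>
      obtain ⟨p, hp, hp'⟩ : ∃ p : ℤ, p = (n : ℤ) + 1 - ((k + 1 : ℕ) : ℤ) ∧ p + 1 = (n : ℤ) + 1 - (k : ℤ) :=
        ⟨_, rfl, by push_cast; ring⟩
      rw [← hp]
      rw [← hp'] at ih
      obtain ⟨hg1, hg2⟩ := hgr n ((n : ℤ) - k, (k : ℤ)) (by simp)
      have hpk : (n : ℤ) - k = p := by omega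
      dsimp only at hg1 hg2
      rw [hpk] at hg1 hg2
      obtain ⟨f2, t2⟩ := (ses (ses_fil (ab.fil n) (ab.anti n) p)).1 ih.1 hg2
      refine ⟨f2, ?_⟩
      rw [Finset.sum_range_succ, ← ih.2, hpk, hg1]
      exact t2
  have h2 := (key (n + 1)).2
  rw [show (n : ℤ) + 1 - ((n + 1 : ℕ) : ℤ) = 0 by push_cast; ring, h0] at h2
  rw [← tr_iso (asIso (⊤ : Subobject (H (n : ℤ))).arrow), h2, ← Finset.Nat.sum_antidiagonal_swap,
    Finset.Nat.sum_antidiagonal_eq_sum_range_succ_mk]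
  refine Finset.sum_congr rfl fun i hi' => ?_
  simp only [Prod.fst_swap, Prod.snd_swap]
  rw [Finset.mem_range] at hi'
  congr 3
  push_cast [Nat.le_of_lt_succ hi']
  rfl

theorem abut_sum (ab : SpSeq.Abutment E H) (hfin : ∀ n, ab.IsFinite n) (ha : ∀ q, 0 ≤ a q) (hc : ∀ p, 0 ≤ c p)
    (hsum : Summable fun p : ℕ => c p * (d p : ℝ)) (h : GoodPage E N a c b d 2 le_rfl) :
    Summable (fun n : ℕ => ‖tr (H n)‖) ∧
      ∑' n : ℕ, (-1 : ℂ) ^ n * tr (H n) =
        ∑' x : ℕ × ℕ, (-1 : ℂ) ^ (x.1 + x.2) * tr ((E.page 2 le_rfl).X ((x.1 : ℤ), (x.2 : ℤ))) := by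
  have hz : ∀ pq : ℤ × ℤ, pq.1 < 0 ∨ pq.2 < 0 → tr (grAt ab pq) = 0 := fun pq hpq =>
    tr_eq_zero (Groth.Agent.Lib.SSAbs.Basic.isZero_gr ab pq _ rfl le_rfl (isZero_page_two h hpq))
  rw [← tsum_nat (fun pq => tr ((E.page 2 le_rfl).X pq)) (fun pq hpq => tr_eq_zero (isZero_page_two h hpq)),
    ← tsum_gr ab ha hc hsum h, tsum_nat _ hz]
  let T : ℕ × ℕ → ℂ := fun x => tr (grAt ab ((x.1 : ℤ), (x.2 : ℤ)))
  have hT : Summable fun x => ‖T x‖ :=
    Summable.of_nonneg_of_le (fun _ => norm_nonneg _)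
      (fun x => (good_gr ab h _).norm_tr (rho_nonneg a c ha hc _))
      ((summable_bound N a c b d ha hc hsum).comp_injective ι_inj)
  let e := Finset.HasAntidiagonal.sigmaAntidiagonalEquivProd (A := ℕ)
  have hT' : Summable fun z => ‖T (e z)‖ := e.summable_iff.2 hT
  constructor
  · refine Summable.of_nonneg_of_le (fun _ => norm_nonneg _) (fun n => ?_) hT'.sigma
    rw [tsum_fintype, tr_abut ab hfin h n]
    exact (norm_sum_le _ _).trans (le_of_eq (Finset.sum_coe_sort _ (fun x => ‖T x‖)).symm)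
  · have hs : Summable fun z => (-1 : ℂ) ^ ((e z).1 + (e z).2) * T (e z) :=
      Summable.of_norm_bounded hT' fun z => by rw [norm_mul, norm_pow, norm_neg, norm_one, one_pow, one_mul]
    rw [← e.tsum_eq (fun x => (-1 : ℂ) ^ (x.1 + x.2) * T x), hs.tsum_sigma]
    refine tsum_congr fun n => ?_
    rw [tsum_fintype, tr_abut ab hfin h n, Finset.mul_sum, ← Finset.sum_coe_sort]
    refine Finset.sum_congr rfl fun x _ => ?_
    have hx : x.1.1 + x.1.2 = n := Finset.HasAntidiagonal.mem_antidiagonal.1 x.2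
    simp only [e, Finset.HasAntidiagonal.sigmaAntidiagonalEquivProd_apply, T]
    rw [hx]

end

end Groth.Agent.H77.TraceAbut
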